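import Mathlib
import Cfsg.Agent.H45.SpTwoGen

/-!
# Definitions for S2281 (three conjugate regular unipotents generate `Sp_{2n}(q)`), helper97

Block conventions (`Matrix.symplecticGroup (Fin k) F`, index type `Fin k ⊕ Fin k`):
`d(g) = fromBlocks g 0 0 (g⁻¹)ᵀ`, `U(S) = fromBlocks 1 S 0 1`, `L(R) = fromBlocks 1 0 R 1`,
`dU g S = d(g) * U(S)`, `dL g R = d(g) * L(R)`.
-/

set_option autoImplicit false

namespace Cfsg.Agent.H97.SpR

open Matrix

variable {F : Type*} [Field F]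

/-- The nilpotent shift `N`: entry `(i, j)` is `1` iff `j = i + 1`. -/
def shiftN (F : Type*) [Field F] (k : ℕ) : Matrix (Fin k) (Fin k) F :=
  Matrix.of fun i j => if (i : ℕ) + 1 = (j : ℕ) then 1 else 0

/-- `1 + c N` (for `c = 1` the Jordan block `J`). -/
def uniM (k : ℕ) (c : F) : Matrix (Fin k) (Fin k) F := 1 + c • shiftN F k

theorem uniM_apply (k : ℕ) (c : F) (i j : Fin k) :
    uniM k c i j = (if i = j then 1 else 0) + c * (if (i : ℕ) + 1 = (j : ℕ) then 1 else 0) := by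
  simp [uniM, shiftN, Matrix.one_apply]

theorem det_uniM (k : ℕ) (c : F) : (uniM k c).det = 1 := by
  have h : (uniM k c).BlockTriangular id := by
    intro i j hij
    have hij' : (j : ℕ) < (i : ℕ) := hij
    rw [uniM_apply]
    have h1 : i ≠ j := fun h => by rw [h] at hij'; exact lt_irrefl _ hij'
    have h2 : ¬ ((i : ℕ) + 1 = (j : ℕ)) := by omega
    simp [h1, h2]
  rw [Matrix.det_of_upperTriangular h]
  apply Finset.prod_eq_one
  intro i _
  rw [uniM_apply]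
  simp

/-- `1 + c N` as an element of `SL_k(F)`. -/
def uniSL (k : ℕ) (c : F) : Matrix.SpecialLinearGroup (Fin k) F := ⟨uniM k c, det_uniM k c⟩

theorem uniSL_coe (k : ℕ) (c : F) :
    ((uniSL k c : Matrix.SpecialLinearGroup (Fin k) F) : Matrix (Fin k) (Fin k) F) = uniM k c := rfl

/-- `d(g) * U(S) = fromBlocks g (g S) 0 (g⁻¹)ᵀ`. -/
def dU {k : ℕ} (g : Matrix.SpecialLinearGroup (Fin k) F) (S : Matrix (Fin k) (Fin k) F) :
    Matrix (Fin k ⊕ Fin k) (Fin k ⊕ Fin k) F :=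
  Matrix.fromBlocks (g : Matrix (Fin k) (Fin k) F) ((g : Matrix (Fin k) (Fin k) F) * S) 0
    ((g⁻¹ : Matrix.SpecialLinearGroup (Fin k) F) : Matrix (Fin k) (Fin k) F)ᵀ

/-- `d(g) * L(R) = fromBlocks g 0 ((g⁻¹)ᵀ R) (g⁻¹)ᵀ`. -/
def dL {k : ℕ} (g : Matrix.SpecialLinearGroup (Fin k) F) (R : Matrix (Fin k) (Fin k) F) :
    Matrix (Fin k ⊕ Fin k) (Fin k ⊕ Fin k) F :=
  Matrix.fromBlocks (g : Matrix (Fin k) (Fin k) F) 0
    (((g⁻¹ : Matrix.SpecialLinearGroup (Fin k) F) : Matrix (Fin k) (Fin k) F)ᵀ * R)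
    ((g⁻¹ : Matrix.SpecialLinearGroup (Fin k) F) : Matrix (Fin k) (Fin k) F)ᵀ

theorem dU_eq_mul {k : ℕ} (g : Matrix.SpecialLinearGroup (Fin k) F) (S : Matrix (Fin k) (Fin k) F) :
    dU g S = Matrix.fromBlocks (g : Matrix (Fin k) (Fin k) F) 0 0
        ((g⁻¹ : Matrix.SpecialLinearGroup (Fin k) F) : Matrix (Fin k) (Fin k) F)ᵀ *
      Matrix.fromBlocks 1 S 0 1 := by
  rw [Matrix.fromBlocks_multiply]
  simp [dU]

theorem dL_eq_mul {k : ℕ} (g : Matrix.SpecialLinearGroup (Fin k) F) (R : Matrix (Fin k) (Fin k) F) :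
    dL g R = Matrix.fromBlocks (g : Matrix (Fin k) (Fin k) F) 0 0
        ((g⁻¹ : Matrix.SpecialLinearGroup (Fin k) F) : Matrix (Fin k) (Fin k) F)ᵀ *
      Matrix.fromBlocks 1 0 R 1 := by
  rw [Matrix.fromBlocks_multiply]
  simp [dL]

theorem d_mem {k : ℕ} (g : Matrix.SpecialLinearGroup (Fin k) F) :
    Matrix.fromBlocks (g : Matrix (Fin k) (Fin k) F) 0 0
        ((g⁻¹ : Matrix.SpecialLinearGroup (Fin k) F) : Matrix (Fin k) (Fin k) F)ᵀ ∈
      Matrix.symplecticGroup (Fin k) F := by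
  apply Cfsg.Agent.H45.diag_mem_sp
  rw [← Matrix.SpecialLinearGroup.coe_mul, mul_inv_cancel, Matrix.SpecialLinearGroup.coe_one]

theorem dU_mem {k : ℕ} (g : Matrix.SpecialLinearGroup (Fin k) F) (S : Matrix (Fin k) (Fin k) F)
    (hS : Sᵀ = S) : dU g S ∈ Matrix.symplecticGroup (Fin k) F := by
  rw [dU_eq_mul]
  exact Submonoid.mul_mem _ (d_mem g) (Cfsg.Agent.H45.upper_mem_sp S hS)

theorem dL_mem {k : ℕ} (g : Matrix.SpecialLinearGroup (Fin k) F) (R : Matrix (Fin k) (Fin k) F)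
    (hR : Rᵀ = R) : dL g R ∈ Matrix.symplecticGroup (Fin k) F := by
  rw [dL_eq_mul]
  exact Submonoid.mul_mem _ (d_mem g) (Cfsg.Agent.H45.lower_mem_sp R hR)

/-- The reversal permutation matrix. -/
def revP (F : Type*) [Field F] (k : ℕ) : Matrix (Fin k) (Fin k) F :=
  Matrix.of fun i j => if (i : ℕ) + (j : ℕ) + 1 = k then 1 else 0

/-- The regular unipotent `u₁ = d(J) U(E_ll)` of `Sp_{2(m+3)}(F)`. -/
def u1M (F : Type*) [Field F] (m : ℕ) :
    Matrix (Fin (m + 3) ⊕ Fin (m + 3)) (Fin (m + 3) ⊕ Fin (m + 3)) F :=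
  dU (uniSL (m + 3) (1 : F)) (Matrix.single (Fin.last (m + 2)) (Fin.last (m + 2)) (1 : F))

/-- `u₃ = d(J⁻¹) L(-E_00)`. -/
def u3M (F : Type*) [Field F] (m : ℕ) :
    Matrix (Fin (m + 3) ⊕ Fin (m + 3)) (Fin (m + 3) ⊕ Fin (m + 3)) F :=
  dL ((uniSL (m + 3) (1 : F))⁻¹) (-(Matrix.single (0 : Fin (m + 3)) (0 : Fin (m + 3)) (1 : F)))

/-- The Weyl element `w = fromBlocks 0 (-P) P 0`, `P` the reversal permutation matrix. -/
def wM (F : Type*) [Field F] (m : ℕ) :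
    Matrix (Fin (m + 3) ⊕ Fin (m + 3)) (Fin (m + 3) ⊕ Fin (m + 3)) F :=
  Matrix.fromBlocks 0 (-(revP F (m + 3))) (revP F (m + 3)) 0

theorem u1M_mem (m : ℕ) : u1M F m ∈ Matrix.symplecticGroup (Fin (m + 3)) F :=
  dU_mem _ _ (by rw [Matrix.transpose_single])

theorem u3M_mem (m : ℕ) : u3M F m ∈ Matrix.symplecticGroup (Fin (m + 3)) F :=
  dL_mem _ _ (by rw [Matrix.transpose_neg, Matrix.transpose_single])

end Cfsg.Agent.H97.SpR
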