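import Mathlib
import Cfsg.Agent.H45.UBlock
import Cfsg.Agent.H11.UGen
import Cfsg.Agent.H97.SpRDefs

/-!
# Definitions for S2282 (three conjugate regular unipotents generate `SU_n(q)`, `n` odd), helper97

Model: `Cfsg.Agent.H45.U.UH σ (Fin k) (Fin 1)` (index type `Fin k ⊕ (Fin k ⊕ Fin 1)`, form
`x·ȳ' + y·x̄' + z·z̄'`), with `eU σ c S`, `eL σ c S`, `dU σ A A' t`, `nU σ G G' ν` of `H45.UDefs`.
-/

set_option autoImplicit false

namespace Cfsg.Agent.H97.SuR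

open Matrix Cfsg.Agent.H45.U

variable {F : Type*} [Field F]

/-- The column vector `e_l` (`l` the last index) as a `k × 1` matrix. -/
def cE (F : Type*) [Field F] (k : ℕ) : Matrix (Fin k) (Fin 1) F :=
  Matrix.of fun i _ => if (i : ℕ) + 1 = k then 1 else 0

/-- `d(g) · e^U(c, S)`: the Levi element of `g ∈ SL_k` times an upper unipotent. -/
def dE (σ : F →+* F) {k : ℕ} (g : Matrix.SpecialLinearGroup (Fin k) F)
    (c : Matrix (Fin k) (Fin 1) F) (S : Matrix (Fin k) (Fin k) F) :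
    Matrix (Fin k ⊕ (Fin k ⊕ Fin 1)) (Fin k ⊕ (Fin k ⊕ Fin 1)) F :=
  dU σ (g : Matrix (Fin k) (Fin k) F)
    ((g⁻¹ : Matrix.SpecialLinearGroup (Fin k) F) : Matrix (Fin k) (Fin k) F)
    (1 : Matrix (Fin 1) (Fin 1) F) * eU σ c S

/-- `d(g) · e^L(c, S)`: the Levi element of `g ∈ SL_k` times a lower unipotent. -/
def dF (σ : F →+* F) {k : ℕ} (g : Matrix.SpecialLinearGroup (Fin k) F)
    (c : Matrix (Fin k) (Fin 1) F) (S : Matrix (Fin k) (Fin k) F) :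
    Matrix (Fin k ⊕ (Fin k ⊕ Fin 1)) (Fin k ⊕ (Fin k ⊕ Fin 1)) F :=
  dU σ (g : Matrix (Fin k) (Fin k) F)
    ((g⁻¹ : Matrix.SpecialLinearGroup (Fin k) F) : Matrix (Fin k) (Fin k) F)
    (1 : Matrix (Fin 1) (Fin 1) F) * eL σ c S

/-- Every `g ∈ T` has a lift `d(g) e^U(c, S)` in `H`. -/
def LiftsU (σ : F →+* F) {k : ℕ} (H : Subgroup ↥(UH σ (Fin k) (Fin 1)))
    (T : Set (Matrix.SpecialLinearGroup (Fin k) F)) : Prop :=
  ∀ g ∈ T, ∃ (c : Matrix (Fin k) (Fin 1) F) (S : Matrix (Fin k) (Fin k) F),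
    ∃ x ∈ H, x.1.1 = dE σ g c S

/-- Every `g ∈ T` has a lift `d(g) e^L(c, S)` in `H`. -/
def LiftsL (σ : F →+* F) {k : ℕ} (H : Subgroup ↥(UH σ (Fin k) (Fin 1)))
    (T : Set (Matrix.SpecialLinearGroup (Fin k) F)) : Prop :=
  ∀ g ∈ T, ∃ (c : Matrix (Fin k) (Fin 1) F) (S : Matrix (Fin k) (Fin k) F),
    ∃ x ∈ H, x.1.1 = dF σ g c S

/-- `T` acts irreducibly (over the prime field) on column vectors, by `c ↦ g c`. -/
def IrrU {k : ℕ} (T : Set (Matrix.SpecialLinearGroup (Fin k) F)) : Prop :=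
  ∀ X : AddSubgroup (Matrix (Fin k) (Fin 1) F),
    (∀ g ∈ T, ∀ c ∈ X, (g : Matrix (Fin k) (Fin k) F) * c ∈ X) → (∃ c ∈ X, c ≠ 0) → ∀ c, c ∈ X

/-- `T` acts irreducibly on column vectors, by `c ↦ (g⁻¹)* c`. -/
def IrrL (σ : F →+* F) {k : ℕ} (T : Set (Matrix.SpecialLinearGroup (Fin k) F)) : Prop :=
  ∀ X : AddSubgroup (Matrix (Fin k) (Fin 1) F),
    (∀ g ∈ T, ∀ c ∈ X,
      ct σ ((g⁻¹ : Matrix.SpecialLinearGroup (Fin k) F) : Matrix (Fin k) (Fin k) F) * c ∈ X) →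
    (∃ c ∈ X, c ≠ 0) → ∀ c, c ∈ X

/-- The `1`-cocycle identity for `s : SL_k(F) → F^k` (right action `c ↦ g⁻¹ c`). -/
def Coc {k : ℕ} (s : Matrix.SpecialLinearGroup (Fin k) F → Matrix (Fin k) (Fin 1) F) : Prop :=
  ∀ g g' : Matrix.SpecialLinearGroup (Fin k) F,
    s (g * g') = ((g'⁻¹ : Matrix.SpecialLinearGroup (Fin k) F) : Matrix (Fin k) (Fin k) F) * s g +
      s g'

/-- `g ∈ SL_k(F)` is a diagonal matrix. -/
def IsDiag {k : ℕ} (g : Matrix.SpecialLinearGroup (Fin k) F) : Prop :=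
  ∀ i j : Fin k, i ≠ j → (g : Matrix (Fin k) (Fin k) F) i j = 0

end Cfsg.Agent.H97.SuR
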