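import Mathlib
import Cfsg.Agent.H66.GrossDefs
import Cfsg.Agent.H14.Cores

/-!
# S3795, piece G1 (glue): inverted `s`-elements centralise `O_q(H)`
-/

set_option autoImplicit false

namespace Cfsg.Agent.H97.Gross

open Cfsg Cfsg.Agent.H66.Gross
open scoped commutatorElement

universe u

/-- A fixed-point-free automorphism of `2`-power order only exists on groups of odd order. -/
theorem odd_card_of_fpf {H : Type*} [Group H] [Finite H] (σ : MulAut H) (n : ℕ)
    (hσ : σ ^ (2 ^ n) = 1) (hfpf : ∀ h : H, σ h = h → h = 1) : Odd (Nat.card H) := by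
  classical
  have hP : IsPGroup 2 (Subgroup.zpowers σ) := by
    rintro ⟨g, k, rfl⟩
    refine ⟨n, Subtype.ext ?_⟩
    show (σ ^ k) ^ (2 ^ n) = 1
    rw [← zpow_natCast, ← zpow_mul, mul_comm, zpow_mul, zpow_natCast, hσ, one_zpow]
  have h1 := hP.card_modEq_card_fixedPoints H
  have h2 : MulAction.fixedPoints (Subgroup.zpowers σ) H = {1} := by
    ext h
    simp only [MulAction.mem_fixedPoints, Set.mem_singleton_iff]
    constructor
    · intro hh
      exact hfpf h (hh ⟨σ, Subgroup.mem_zpowers σ⟩)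
    · rintro rfl g
      exact smul_one g
  rw [h2] at h1
  simp only [Nat.card_eq_fintype_card, Fintype.card_ofSubsingleton, Set.card_singleton] at h1
  exact Nat.odd_iff.mpr h1

theorem commute_of_sq_of_odd {H : Type*} [Group H] (t z : H) (hodd : Odd (orderOf t))
    (h : Commute (t * t) z) : Commute t z := by
  obtain ⟨k, hk⟩ := hodd
  have h2 : t = (t * t) ^ (k + 1) := by
    rw [← pow_two, ← pow_mul]
    have h3 : 2 * (k + 1) = orderOf t + 1 := by omega
    rw [h3, pow_succ, pow_orderOf_eq_one, one_mul]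
  rw [h2]
  exact h.pow_left _

theorem comm_pow_of_central {H : Type*} [Group H] (a b : H)
    (hc : ∀ k : ℕ, Commute a ⁅a ^ k, b⁆) (k : ℕ) : ⁅a ^ k, b⁆ = ⁅a, b⁆ ^ k := by
  induction k with
  | zero => simp
  | succ k ih =>
    have h1 : ⁅a ^ (k + 1), b⁆ = a * ⁅a ^ k, b⁆ * a⁻¹ * ⁅a, b⁆ := by
      simp only [commutatorElement_def]; group
    rw [h1, (hc k).eq, mul_inv_cancel_right, ih, pow_succ]

theorem coprime_orderOf_of_mem {H : Type*} [Group H] {q s : ℕ} [hq : Fact q.Prime]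
    [hs : Fact s.Prime] (hqs : q ≠ s) {S : Subgroup H} (hS : IsPGroup s S) {t : H}
    (ht : t ∈ S) : (orderOf t).Coprime q := by
  obtain ⟨k, hk⟩ := hS ⟨t, ht⟩
  have hk' : t ^ (s ^ k) = 1 := by
    have := congrArg Subtype.val hk
    simpa using this
  have hdvd : orderOf t ∣ s ^ k := orderOf_dvd_of_pow_eq_one hk'
  exact Nat.Coprime.coprime_dvd_left hdvd
    (Nat.Coprime.pow_left k ((Nat.coprime_primes hs.out hq.out).mpr (Ne.symm hqs)))

theorem g1_holds (hR1 : R1Statement.{u}) (hL : LGroupStatement.{u}) (hU : UGroupStatement.{u})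
    (hCrit : CritStatement.{u}) (hSpan : SpanStatement.{u}) (hCyc : CycStatement.{u})
    (hStab : StabStatement.{u}) : G1Statement.{u} := by
  intro H _ _ σ n hn hσ hfpf q s _ _ hqs hsep S hS hSσ y hyS hyτ
  classical
  have hodd : Odd (Nat.card H) := odd_card_of_fpf σ n hσ hfpf
  have hoddo : ∀ t : H, Odd (orderOf t) := fun t => hodd.of_dvd_nat (orderOf_dvd_natCard t)
  obtain ⟨C, Z, hCq, hZC, hCchar, hZchar, hcent, hcomm, hpow, hself, hlast⟩ := hCrit H q
  have hCn : C.Normal := by haveI := hCchar; infer_instance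
  have hZn : Z.Normal := by haveI := hZchar; infer_instance
  have hCσ : ∀ (φ : MulAut H), ∀ x ∈ C, φ x ∈ C := by
    intro φ x hx
    have h1 : x ∈ C.comap (φ : H ≃* H).toMonoidHom := by rw [hCchar.fixed]; exact hx
    exact h1
  have hZσ : ∀ (φ : MulAut H), ∀ x ∈ Z, φ x ∈ Z := by
    intro φ x hx
    have h1 : x ∈ Z.comap (φ : H ≃* H).toMonoidHom := by rw [hZchar.fixed]; exact hx
    exact h1
  have hCp : IsPGroup q C := (Cfsg.Agent.H14.pCore_isPGroup q H).to_le hCq
  have hZp : IsPGroup q Z := hCp.to_le hZC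
  have hZab : ∀ a ∈ Z, ∀ b ∈ Z, a * b = b * a := fun a ha b hb => hcent a (hZC ha) b hb
  have hcardZ : ∀ (K : Type) [Field K], (q : K) ≠ 0 → (Nat.card Z : K) ≠ 0 := by
    intro K _ hqK
    obtain ⟨k, hk⟩ := (IsPGroup.iff_card).mp hZp
    rw [hk]; push_cast; exact pow_ne_zero _ hqK
  -- STEP 1
  have hτZ : ∀ z ∈ Z, (σ ^ (2 ^ (n - 1))) z = z := by
    intro z hz
    by_contra hne
    have hx : (σ ^ (2 ^ (n - 1))) z * z⁻¹ ∈ Z := Z.mul_mem (hZσ _ z hz) (Z.inv_mem hz)
    have hx1 : (σ ^ (2 ^ (n - 1))) z * z⁻¹ ≠ 1 := fun h => hne (mul_inv_eq_one.mp h)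
    obtain ⟨K, _, _, V, _, _, _, ρ, X, h2, hqK, hmod, hρ⟩ := hsep _ (hCq (hZC hx)) hx1
    have h3 := hR1 H σ n hn K V ρ X hmod Z (hZσ σ)
      (fun a ha b hb => by rw [← map_mul, ← map_mul, hZab a ha b hb]) (hcardZ K hqK) z hz
    apply hρ
    rw [map_mul, h3, ← map_mul, mul_inv_cancel, map_one]
  have hcrit : IsCritPair σ n q C Z := ⟨hCp, hZC, hCσ σ, hZσ σ, hcent, hcomm, hpow, hτZ⟩
  -- STEP 2
  let T : Subgroup H := Subgroup.closure {t | t ∈ S ∧ (σ ^ (2 ^ (n - 1))) t = t⁻¹}
  have hTS : T ≤ S := (Subgroup.closure_le S).mpr (fun t ht => ht.1)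
  have hTp : IsPGroup s T := hS.to_le hTS
  have hyT : y ∈ T := Subgroup.subset_closure ⟨hyS, hyτ⟩
  have hστ : ∀ h, (σ ^ (2 ^ (n - 1))) (σ h) = σ ((σ ^ (2 ^ (n - 1))) h) := by
    intro h
    have h1 : σ ^ (2 ^ (n - 1)) * σ = σ * σ ^ (2 ^ (n - 1)) :=
      ((Commute.refl σ).pow_left _).eq
    exact congrArg (fun f : MulAut H => f h) h1
  have hTσ : ∀ t ∈ T, σ t ∈ T := by
    intro t ht
    induction ht using Subgroup.closure_induction with
    | mem t ht => exact Subgroup.subset_closure ⟨hSσ t ht.1, by rw [hστ, ht.2, map_inv]⟩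
    | one => rw [map_one]; exact T.one_mem
    | mul a b _ _ iha ihb => rw [map_mul]; exact T.mul_mem iha ihb
    | inv a _ iha => rw [map_inv]; exact T.inv_mem iha
  have hTnorm : ∀ t ∈ T, ∀ x ∈ C, t * x * t⁻¹ ∈ C := fun t _ x hx => hCn.conj_mem x hx t
  have hTcent : ∀ t ∈ T, ∀ z ∈ Z, t * z = z * t := by
    intro t ht z hz
    have hc : Commute t z := by
      induction ht using Subgroup.closure_induction with
      | mem t ht =>
        have h1 : (σ ^ (2 ^ (n - 1))) (t * z * t⁻¹) = t * z * t⁻¹ :=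
          hτZ _ (hZn.conj_mem z hz t)
        rw [map_mul, map_mul, map_inv, ht.2, hτZ z hz, inv_inv] at h1
        have h2 : Commute (t * t) z := by
          show t * t * z = z * (t * t)
          calc t * t * z = t * (t * z * t⁻¹) * t := by group
            _ = t * (t⁻¹ * z * t) * t := by rw [h1]
            _ = z * (t * t) := by group
        exact commute_of_sq_of_odd t z (hoddo t) h2
      | one => exact Commute.one_left z
      | mul a b _ _ iha ihb => exact iha.mul_left ihb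
      | inv a _ iha => exact iha.inv_left
    exact hc.eq
  -- STEP 3
  by_contra hcon
  have hyq : (orderOf y).Coprime q := coprime_orderOf_of_mem hqs hS hyS
  have hex : ∃ x ∈ C, y * x ≠ x * y := by
    by_contra h
    push_neg at h
    exact hcon (hlast y hyq h)
  obtain ⟨x₀, hx₀C, hx₀⟩ := hex
  obtain ⟨z, hzT, hzne, hzD⟩ := hU H σ n hn hσ hfpf q s hqs C Z hcrit T hTp hTσ hTnorm hTcent
    ⟨y, hyT, hyτ, x₀, hx₀C, hx₀⟩
  -- STEP 4
  have hzC : ∀ x ∈ C, ⁅z, x⁆ ∈ C := by
    intro x hx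
    rw [commutatorElement_def]
    exact C.mul_mem (hCn.conj_mem x hx z) (C.inv_mem hx)
  have hA_le : ⁅C, C⁆ ≤ Z := Subgroup.commutator_le.mpr (fun a ha b hb => hcomm a ha b hb)
  have hexp : ∀ a ∈ ⁅C, C⁆, a ^ q = 1 := by
    let E : Subgroup H :=
      { carrier := {a | a ∈ Z ∧ a ^ q = 1}
        mul_mem' := by
          rintro a b ⟨ha, ha'⟩ ⟨hb, hb'⟩
          refine ⟨Z.mul_mem ha hb, ?_⟩
          have hab : Commute a b := hZab a ha b hb
          rw [hab.mul_pow, ha', hb', one_mul]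
        one_mem' := ⟨Z.one_mem, one_pow _⟩
        inv_mem' := by
          rintro a ⟨ha, ha'⟩
          exact ⟨Z.inv_mem ha, by rw [inv_pow, ha', inv_one]⟩ }
    have hE : ⁅C, C⁆ ≤ E := by
      refine Subgroup.commutator_le.mpr (fun a ha b hb => ⟨hcomm a ha b hb, ?_⟩)
      have h1 := comm_pow_of_central a b
        (fun k => hcent a ha _ (hcomm _ (C.pow_mem ha k) b hb)) q
      rw [← h1]
      rw [commutatorElement_eq_one_iff_commute]
      exact (hcent b hb _ (hpow a ha)).symm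
    intro a ha
    exact (hE ha).2
  have hkey : ∀ x ∈ C, ∀ y' ∈ C, ⁅⁅z, x⁆, y'⁆ = 1 := by
    intro x hx y' hy'
    by_contra hne
    have huZ : ⁅⁅z, x⁆, y'⁆ ∈ Z := hcomm _ (hzC x hx) _ hy'
    obtain ⟨K, _, _, V, _, _, _, ρ, X, h2, hqK, hmod, hρ⟩ := hsep _ (hCq (hZC huZ)) hne
    apply hρ
    have hspan := hSpan H K V ρ Z (hcardZ K hqK)
      (fun a ha b hb => by rw [← map_mul, ← map_mul, hZab a ha b hb])
    have hall : ∀ w : V, (∀ d ∈ Z, ∃ c : K, ρ d w = c • w) → ρ ⁅⁅z, x⁆, y'⁆ w = w := by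
      intro w hw
      by_cases hw0 : w = 0
      · rw [hw0, map_zero]
      let D : Subgroup H :=
        { carrier := {h | ρ h w = w}
          mul_mem' := by
            intro a b ha hb
            have ha' : ρ a w = w := ha
            have hb' : ρ b w = w := hb
            show ρ (a * b) w = w
            rw [map_mul, Module.End.mul_apply, hb', ha']
          one_mem' := by
            show ρ 1 w = w
            rw [map_one]; rfl
          inv_mem' := by
            intro a ha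
            have ha' : ρ a w = w := ha
            show ρ a⁻¹ w = w
            have h3 : ρ a⁻¹ (ρ a w) = w := by
              rw [← Module.End.mul_apply, ← map_mul, inv_mul_cancel, map_one]; rfl
            rw [ha'] at h3
            exact h3 }
      have hcyc : ∃ c₀ ∈ ⁅C, C⁆, ∀ c ∈ ⁅C, C⁆, ∃ i : ℕ, c * c₀ ^ i ∈ D :=
        hCyc H q K V ρ ⁅C, C⁆ hexp (fun a ha b hb => hZab a (hA_le ha) b (hA_le hb)) w hw0
          (fun a ha => hw a (hA_le ha))
      have hrank := hL H σ n hn q K V ρ X hmod h2 hqK hfpf C Z hcrit w hw0 hw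
      exact hzD D hcyc hrank x hx y' hy'
    exact LinearMap.ext_on hspan (fun w hw => hall w hw)
  -- STEP 5
  have hzZ : ∀ x ∈ C, ⁅z, x⁆ ∈ Z := by
    intro x hx
    apply hself _ (hzC x hx)
    intro y' hy'
    exact (commutatorElement_eq_one_iff_commute.mp (hkey x hx y' hy')).eq
  have hzq : (orderOf z).Coprime q := coprime_orderOf_of_mem hqs hS (hTS hzT)
  obtain ⟨x₁, hx₁, hne⟩ := hzne
  exact hne (hStab H q C Z hCp hZC z hzq (fun k hk => hTcent z hzT k hk) hzZ x₁ hx₁)

end Cfsg.Agent.H97.Gross
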