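import Mathlib
import Cfsg.Agent.H11.SmallSimple
import Cfsg.Agent.S0493
import Cfsg.Agent.S0494

set_option autoImplicit false

namespace Cfsg.Agent.H97.Ord120

universe u

theorem solvable_of_normal (G : Type u) [Group G] (N : Subgroup G) [N.Normal]
    (h1 : Group.IsSolvable N) (h2 : Group.IsSolvable (G ⧸ N)) : Group.IsSolvable G :=
  Group.isSolvable_of_ker_le_range N.subtype (QuotientGroup.mk' N)
    (by rw [QuotientGroup.ker_mk', Subgroup.range_subtype])

theorem exists_normal_of_not_simple (G : Type u) [Group G] [Nontrivial G]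
    (h : ¬ IsSimpleGroup G) : ∃ N : Subgroup G, N.Normal ∧ N ≠ ⊥ ∧ N ≠ ⊤ := by
  by_contra hcon
  push Not at hcon
  apply h
  refine ⟨fun N hN => ?_⟩
  by_cases hb : N = ⊥
  · left; exact hb
  · right; exact hcon N hN hb

theorem card_lt_of_ne_top (G : Type u) [Group G] [Finite G] (N : Subgroup G) (h : N ≠ ⊤) :
    Nat.card N < Nat.card G := by
  by_contra hcon
  push Not at hcon
  apply h
  apply Subgroup.eq_top_of_card_eq
  exact le_antisymm (Subgroup.card_le_card_group N) hcon

theorem index_lt_of_ne_bot (G : Type u) [Group G] [Finite G] (N : Subgroup G) (h : N ≠ ⊥) :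
    Nat.card (G ⧸ N) < Nat.card G := by
  have h1 := Subgroup.card_mul_index N
  have h2 : 1 < Nat.card N := by
    rw [Finite.one_lt_card_iff_nontrivial]
    exact (Subgroup.nontrivial_iff_ne_bot N).mpr h
  have h3 : 0 < N.index := Nat.pos_of_ne_zero Subgroup.index_ne_zero_of_finite
  have h4 : N.index = Nat.card (G ⧸ N) := rfl
  rw [← h4]
  nlinarith

/-- groups of order less than 60 are solvable -/
theorem solvable_of_card_lt : ∀ (n : ℕ) (G : Type u) [Group G] [Finite G],
    Nat.card G = n → n < 60 → Group.IsSolvable G := by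
  intro n
  induction n using Nat.strong_induction_on with
  | _ n ih =>
    intro G _ _ hn hlt
    by_cases hsimple : IsSimpleGroup G
    · by_cases hcyc : IsCyclic G
      · exact Group.isSolvable_of_comm (fun a b => by
          let _ : CommGroup G := IsCyclic.commGroup
          exact mul_comm a b)
      · have := Cfsg.Agent.S0493.result hcyc (by omega)
        omega
    · by_cases htriv : Subsingleton G
      · exact Group.isSolvable_of_comm (fun a b => Subsingleton.elim _ _)
      · have hnt : Nontrivial G := not_subsingleton_iff_nontrivial.mp htriv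
        obtain ⟨N, hN, hbot, htop⟩ := exists_normal_of_not_simple G hsimple
        have h1 : Nat.card N < n := hn ▸ card_lt_of_ne_top G N htop
        have h2 : Nat.card (G ⧸ N) < n := hn ▸ index_lt_of_ne_bot G N hbot
        exact solvable_of_normal G N (ih _ h1 N rfl (by omega)) (ih _ h2 (G ⧸ N) rfl (by omega))

/-- a nonsolvable group of order 60 is simple -/
theorem simple_of_card_60 (G : Type u) [Group G] [Finite G] (h : Nat.card G = 60)
    (hns : ¬ Group.IsSolvable G) : IsSimpleGroup G := by
  by_contra hsimple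
  apply hns
  have hnt : Nontrivial G := by
    rw [← Finite.one_lt_card_iff_nontrivial, h]; norm_num
  obtain ⟨N, hN, hbot, htop⟩ := exists_normal_of_not_simple G hsimple
  have h1 : Nat.card N < 60 := h ▸ card_lt_of_ne_top G N htop
  have h2 : Nat.card (G ⧸ N) < 60 := h ▸ index_lt_of_ne_bot G N hbot
  exact solvable_of_normal G N (solvable_of_card_lt _ N rfl h1)
    (solvable_of_card_lt _ (G ⧸ N) rfl h2)

/-- there is no simple group of order 120 -/
theorem no_simple_120 (G : Type u) [Group G] [Finite G] [IsSimpleGroup G]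
    (h : Nat.card G = 120) : False := by
  classical
  have hnc : ¬ IsCyclic G := by
    intro hc
    let _ : CommGroup G := IsCyclic.commGroup
    have hp := IsSimpleGroup.prime_card (α := G)
    rw [h] at hp
    norm_num at hp
  have : Fact (Nat.Prime 5) := ⟨by norm_num⟩
  obtain ⟨h1, h2, h3, h4⟩ := Cfsg.Agent.H11.sylow_card_facts hnc 5 (by rw [h]; norm_num)
  have hn6 : Nat.card (Sylow 5 G) = 6 := by
    rw [h] at h1
    have hle : Nat.card (Sylow 5 G) ≤ 120 := Nat.le_of_dvd (by norm_num) h1
    generalize Nat.card (Sylow 5 G) = n at h1 h2 h3 hle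
    interval_cases n <;> omega
  obtain ⟨P⟩ : Nonempty (Sylow 5 G) := inferInstance
  have hidx : (Subgroup.normalizer ((P : Subgroup G) : Set G)).index = 6 := by
    rw [← hn6]; exact (Sylow.card_eq_index_normalizer P).symm
  have hNtop : Subgroup.normalizer ((P : Subgroup G) : Set G) ≠ ⊤ := by
    intro ht; rw [ht, Subgroup.index_top] at hidx; omega
  generalize Subgroup.normalizer ((P : Subgroup G) : Set G) = N at hidx hNtop
  let _ : Fintype (G ⧸ N) := Fintype.ofFinite _
  have hinj := Cfsg.Agent.H11.toPermHom_injective_of_ne_top N hNtop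
  have hcardQ : Nat.card (G ⧸ N) = 6 := hidx
  have hsign : ∀ g, Equiv.Perm.sign (MulAction.toPermHom G (G ⧸ N) g) = 1 := by
    rcases Subgroup.Normal.eq_bot_or_eq_top
      (Equiv.Perm.sign.comp (MulAction.toPermHom G (G ⧸ N))).normal_ker with hk | hk
    · exfalso
      have hsinj : Function.Injective (Equiv.Perm.sign.comp (MulAction.toPermHom G (G ⧸ N))) :=
        (MonoidHom.ker_eq_bot_iff _).mp hk
      have hle := Nat.card_le_card_of_injective _ hsinj
      rw [h] at hle
      have h2' : Nat.card ℤˣ = 2 := by simp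
      omega
    · intro g
      have hg : g ∈ (Equiv.Perm.sign.comp (MulAction.toPermHom G (G ⧸ N))).ker := by
        rw [hk]; trivial
      exact hg
  let φ' : G →* alternatingGroup (G ⧸ N) :=
    (MulAction.toPermHom G (G ⧸ N)).codRestrict _
      (fun g => Equiv.Perm.mem_alternatingGroup.mpr (hsign g))
  have hinj' : Function.Injective φ' := by
    intro a b hab
    apply hinj
    exact congrArg Subtype.val hab
  have : Nontrivial (G ⧸ N) := by
    rw [← Finite.one_lt_card_iff_nontrivial, hcardQ]; norm_num
  have hcardA : Nat.card (alternatingGroup (G ⧸ N)) = 360 := by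
    have h5 := two_mul_nat_card_alternatingGroup (α := G ⧸ N)
    rw [Nat.card_perm, hcardQ] at h5
    have : (6 : ℕ).factorial = 720 := by decide
    omega
  have : IsSimpleGroup (alternatingGroup (G ⧸ N)) :=
    alternatingGroup.isSimpleGroup (by rw [hcardQ]; norm_num)
  have hcardR : Nat.card φ'.range = 120 := by
    rw [← h]; exact (Nat.card_congr (MonoidHom.ofInjective hinj').toEquiv).symm
  have hrange_ne : φ'.range ≠ ⊤ := by
    intro ht
    rw [ht, Subgroup.card_top, hcardA] at hcardR
    omega
  have hdvd := Cfsg.Agent.H11.card_dvd_factorial_index φ'.range hrange_ne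
  have hidx3 : φ'.range.index = 3 := by
    have h6 := Subgroup.card_mul_index φ'.range
    rw [hcardR, hcardA] at h6
    omega
  rw [hidx3, hcardA] at hdvd
  norm_num at hdvd

theorem exists_max_normal (G : Type u) [Group G] [Finite G] [Nontrivial G] :
    ∃ M : Subgroup G, M.Normal ∧ M ≠ ⊤ ∧
      ∀ K : Subgroup G, K.Normal → M ≤ K → K = M ∨ K = ⊤ := by
  have : Nonempty {N : Subgroup G // N.Normal ∧ N ≠ ⊤} := ⟨⟨⊥, inferInstance, bot_ne_top⟩⟩
  obtain ⟨M, hM⟩ := Finite.exists_max (fun N : {N : Subgroup G // N.Normal ∧ N ≠ ⊤} =>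
    Nat.card N.1)
  refine ⟨M.1, M.2.1, M.2.2, fun K hK hMK => ?_⟩
  by_cases hKt : K = ⊤
  · right; exact hKt
  · left
    have h1 := hM ⟨K, hK, hKt⟩
    exact (Subgroup.eq_of_le_of_card_ge hMK h1).symm

theorem quotient_simple (G : Type u) [Group G] (M : Subgroup G) [M.Normal] (hM : M ≠ ⊤)
    (hmax : ∀ K : Subgroup G, K.Normal → M ≤ K → K = M ∨ K = ⊤) : IsSimpleGroup (G ⧸ M) := by
  have : Nontrivial (G ⧸ M) := QuotientGroup.nontrivial_iff.mpr hM
  refine ⟨fun K hK => ?_⟩
  have hle : M ≤ K.comap (QuotientGroup.mk' M) := by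
    intro m hm
    rw [Subgroup.mem_comap]
    have : QuotientGroup.mk' M m = 1 := (QuotientGroup.eq_one_iff m).mpr hm
    rw [this]; exact K.one_mem
  rcases hmax (K.comap (QuotientGroup.mk' M)) inferInstance hle with h | h
  · left
    rw [← Subgroup.map_comap_eq_self_of_surjective (QuotientGroup.mk'_surjective M) K, h,
      QuotientGroup.map_mk'_self]
  · right
    rw [← Subgroup.map_comap_eq_self_of_surjective (QuotientGroup.mk'_surjective M) K, h,
      ← MonoidHom.range_eq_map, MonoidHom.range_eq_top.mpr (QuotientGroup.mk'_surjective M)]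

theorem q8_unique_inv : ∀ a b : QuaternionGroup 2, a * a = 1 → b * b = 1 → a ≠ 1 → b ≠ 1 →
    a = b := by decide

/-- with quaternion Sylow 2-subgroups, two commuting involutions are equal -/
theorem inv_unique (G : Type u) [Group G]
    (hQ : ∀ P : Sylow 2 G, Nonempty ((P : Subgroup G) ≃* QuaternionGroup 2)) (a b : G)
    (ha : a * a = 1) (hb : b * b = 1) (ha1 : a ≠ 1) (hb1 : b ≠ 1) (hab : a * b = b * a) :
    a = b := by
  have h1 : Subgroup.closure ({a, b} : Set G) ≤ Subgroup.centralizer ({a, b} : Set G) := by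
    rw [Subgroup.closure_le]
    rintro x (rfl | rfl)
    · rw [SetLike.mem_coe, Subgroup.mem_centralizer_iff]
      rintro g (rfl | rfl)
      · rfl
      · exact hab.symm
    · rw [SetLike.mem_coe, Subgroup.mem_centralizer_iff]
      rintro g (rfl | rfl)
      · exact hab
      · rfl
  have h2 : ∀ x ∈ Subgroup.closure ({a, b} : Set G), ∀ y ∈ Subgroup.closure ({a, b} : Set G),
      x * y = y * x := by
    intro x hx y hy
    have h3 : Subgroup.closure ({a, b} : Set G) ≤
        Subgroup.centralizer ((Subgroup.closure ({a, b} : Set G) : Subgroup G) : Set G) := by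
      rw [Subgroup.closure_le]
      rintro g hg
      rw [SetLike.mem_coe, Subgroup.mem_centralizer_iff]
      intro k hk
      have := Subgroup.mem_centralizer_iff.mp (h1 hk) g hg
      exact this.symm
    exact (Subgroup.mem_centralizer_iff.mp (h3 hy) x hx)
  have h4 : ∀ x ∈ Subgroup.closure ({a, b} : Set G), x * x = 1 := by
    intro x hx
    induction hx using Subgroup.closure_induction with
    | mem x hx =>
      rcases hx with rfl | rfl
      · exact ha
      · exact hb
    | one => simp
    | mul x y hx hy ihx ihy =>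
      calc x * y * (x * y) = x * (y * x) * y := by group
        _ = x * (x * y) * y := by rw [h2 y hy x hx]
        _ = (x * x) * (y * y) := by group
        _ = 1 := by rw [ihx, ihy, mul_one]
    | inv x hx ihx =>
      calc x⁻¹ * x⁻¹ = (x * x)⁻¹ := by group
        _ = 1 := by rw [ihx, inv_one]
  have hp : IsPGroup 2 (Subgroup.closure ({a, b} : Set G)) := by
    intro g
    refine ⟨1, ?_⟩
    apply Subtype.ext
    rw [pow_one, pow_two]
    exact h4 g.1 g.2
  obtain ⟨Q, hQle⟩ := hp.exists_le_sylow
  obtain ⟨e⟩ := hQ Q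
  have haQ : a ∈ (Q : Subgroup G) := hQle (Subgroup.subset_closure (by simp))
  have hbQ : b ∈ (Q : Subgroup G) := hQle (Subgroup.subset_closure (by simp))
  have key := q8_unique_inv (e ⟨a, haQ⟩) (e ⟨b, hbQ⟩)
    (by rw [← map_mul]; convert map_one e using 2; exact Subtype.ext ha)
    (by rw [← map_mul]; convert map_one e using 2; exact Subtype.ext hb)
    (fun h => ha1 (by
      have := e.injective (h.trans (map_one e).symm)
      exact congrArg Subtype.val this))
    (fun h => hb1 (by
      have := e.injective (h.trans (map_one e).symm)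
      exact congrArg Subtype.val this))
  exact congrArg Subtype.val (e.injective key)

theorem a5_invs : ∃ a b : alternatingGroup (Fin 5), a * a = 1 ∧ b * b = 1 ∧ a ≠ 1 ∧ b ≠ 1 ∧
    a * b = b * a ∧ a ≠ b := by
  refine ⟨⟨Equiv.swap (0 : Fin 5) 1 * Equiv.swap 2 3, ?_⟩,
    ⟨Equiv.swap (0 : Fin 5) 2 * Equiv.swap 1 3, ?_⟩, ?_, ?_, ?_, ?_, ?_, ?_⟩
  · rw [Equiv.Perm.mem_alternatingGroup, map_mul, Equiv.Perm.sign_swap (by decide),
      Equiv.Perm.sign_swap (by decide)]; rfl
  · rw [Equiv.Perm.mem_alternatingGroup, map_mul, Equiv.Perm.sign_swap (by decide),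
      Equiv.Perm.sign_swap (by decide)]; rfl
  · exact Subtype.ext (by decide)
  · exact Subtype.ext (by decide)
  · intro h; exact absurd (congrArg Subtype.val h) (by decide)
  · intro h; exact absurd (congrArg Subtype.val h) (by decide)
  · exact Subtype.ext (by decide)
  · intro h; exact absurd (congrArg Subtype.val h) (by decide)

/-- a nonsolvable group of order 120 with quaternion Sylow 2-subgroups has a normal subgroup of
order 2 with simple quotient of order 60 -/
theorem exists_central (G : Type u) [Group G] [Finite G] (h120 : Nat.card G = 120)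
    (hns : ¬ Group.IsSolvable G)
    (hQ : ∀ P : Sylow 2 G, Nonempty ((P : Subgroup G) ≃* QuaternionGroup 2)) :
    ∃ Z : Subgroup G, ∃ _ : Z.Normal, Nat.card Z = 2 ∧ IsSimpleGroup (G ⧸ Z) ∧
      Nat.card (G ⧸ Z) = 60 := by
  have hnt : Nontrivial G := by
    rw [← Finite.one_lt_card_iff_nontrivial, h120]; norm_num
  obtain ⟨M, hMn, hMtop, hmax⟩ := exists_max_normal G
  have hsimp : IsSimpleGroup (G ⧸ M) := quotient_simple G M hMtop hmax
  have hcard : Nat.card M * Nat.card (G ⧸ M) = 120 := by
    rw [← h120]; exact Subgroup.card_mul_index M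
  by_cases hcyc : IsCyclic (G ⧸ M)
  · exfalso
    have hMns : ¬ Group.IsSolvable M := fun hs => hns (solvable_of_normal G M hs
      (Group.isSolvable_of_comm (fun a b => by
          let _ : CommGroup (G ⧸ M) := IsCyclic.commGroup
          exact mul_comm a b)))
    have hM60 : Nat.card M = 60 := by
      have h1 : ¬ Nat.card M < 60 := fun hlt => hMns (solvable_of_card_lt _ M rfl hlt)
      have h2 : Nat.card M < 120 := h120 ▸ card_lt_of_ne_top G M hMtop
      have h3 : Nat.card M ∣ 120 := Dvd.intro _ hcard
      generalize Nat.card M = m at h1 h2 h3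
      interval_cases m <;> omega
    have hMs := simple_of_card_60 M hM60 hMns
    obtain ⟨e⟩ := Cfsg.Agent.S0494.result (G := M) hM60
    obtain ⟨a, b, ha, hb, ha1, hb1, hab, hne⟩ := a5_invs
    apply hne
    have key := inv_unique G hQ ((e.symm a : M) : G) ((e.symm b : M) : G)
      (by rw [← Subgroup.coe_mul, ← map_mul, ha, map_one]; rfl)
      (by rw [← Subgroup.coe_mul, ← map_mul, hb, map_one]; rfl)
      (fun h => ha1 (by
        have h' : e.symm a = 1 := Subtype.ext h
        exact e.symm.injective (h'.trans (map_one e.symm).symm)))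
      (fun h => hb1 (by
        have h' : e.symm b = 1 := Subtype.ext h
        exact e.symm.injective (h'.trans (map_one e.symm).symm)))
      (by rw [← Subgroup.coe_mul, ← Subgroup.coe_mul, ← map_mul, ← map_mul, hab])
    exact e.symm.injective (Subtype.ext key)
  · by_cases h100 : Nat.card (G ⧸ M) ≤ 100
    · have h60 := Cfsg.Agent.S0493.result hcyc h100
      refine ⟨M, hMn, ?_, hsimp, h60⟩
      rw [h60] at hcard; omega
    · exfalso
      have h3 : Nat.card (G ⧸ M) ∣ 120 := Dvd.intro_left _ hcard
      have h4 : Nat.card (G ⧸ M) ≤ 120 := Nat.le_of_dvd (by norm_num) h3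
      have h5 : Nat.card (G ⧸ M) = 120 := by
        generalize Nat.card (G ⧸ M) = m at h100 h3 h4
        interval_cases m <;> omega
      exact no_simple_120 (G ⧸ M) h5

end Cfsg.Agent.H97.Ord120
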