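import Mathlib
import Cfsg.Agent.H97.SpRDefs
import Cfsg.Agent.H18.SpRMOD
import Cfsg.Agent.H18.SpRSTAB
import Cfsg.Agent.H25.SpROrd
import Cfsg.Agent.H25.SpRTrick
import Cfsg.Agent.H27.SpRN2O
import Cfsg.Agent.H28.SpRFin
import Cfsg.Agent.H28.SpRJord
import Cfsg.Agent.H28.SpRWeyl
import Cfsg.Agent.H44.SpRChain
import Cfsg.Agent.H44.SpRLevi
import Cfsg.Agent.H62.SpRReg
import Cfsg.Agent.H71.SpRLIFT
import Cfsg.Agent.H71.SpRU2
import Cfsg.Agent.H97.SpRN2E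

/-!
# S2281 assembly (helper97): `Sp_{2n}(q)`, `n ≥ 2`, `(n, q) ≠ (2, 2)`, is generated by three
conjugate regular unipotents.  Pieces by helpers 18, 25, 27, 28, 44, 62, 71 and 97.
-/

set_option autoImplicit false

namespace Cfsg.Agent.H97.SpRAsm
open Matrix Cfsg.Agent.H97.SpR

variable {F : Type*} [Field F]

theorem conj_eq_of_comm {k : ℕ} (g u x : Matrix.symplecticGroup (Fin k) F)
    (h : (g : Matrix (Fin k ⊕ Fin k) (Fin k ⊕ Fin k) F) * (u : Matrix (Fin k ⊕ Fin k) (Fin k ⊕ Fin k) F) =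
      (x : Matrix (Fin k ⊕ Fin k) (Fin k ⊕ Fin k) F) * (g : Matrix (Fin k ⊕ Fin k) (Fin k ⊕ Fin k) F)) :
    g * u * g⁻¹ = x := by
  have h' : g * u = x * g := Subtype.ext h
  rw [h', mul_inv_cancel_right]

theorem main_ge3 [Fintype F] (m : ℕ) :
    ∃ u g h : Matrix.symplecticGroup (Fin (m + 3)) F,
      IsNilpotent ((u : Matrix (Fin (m + 3) ⊕ Fin (m + 3)) (Fin (m + 3) ⊕ Fin (m + 3)) F) - 1) ∧
      ((u : Matrix (Fin (m + 3) ⊕ Fin (m + 3)) (Fin (m + 3) ⊕ Fin (m + 3)) F) - 1) ^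
        (2 * (m + 3) - 1) ≠ 0 ∧
      Subgroup.closure ({u, g * u * g⁻¹, h * u * h⁻¹} :
        Set (Matrix.symplecticGroup (Fin (m + 3)) F)) = ⊤ := by
  classical
  obtain ⟨M, M', J₂, hMM', hM'M, hJ₂, hgen⟩ := Cfsg.Agent.H44.SpR.levi_gen (F := F) m
  have hEs : (Matrix.single (Fin.last (m + 2)) (Fin.last (m + 2)) (1 : F))ᵀ =
      Matrix.single (Fin.last (m + 2)) (Fin.last (m + 2)) (1 : F) := Matrix.transpose_single _ _ _
  have hS₂ : (M * Matrix.single (Fin.last (m + 2)) (Fin.last (m + 2)) (1 : F) * Mᵀ)ᵀ =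
      M * Matrix.single (Fin.last (m + 2)) (Fin.last (m + 2)) (1 : F) * Mᵀ := by
    rw [Matrix.transpose_mul, Matrix.transpose_mul, Matrix.transpose_transpose, hEs,
      Matrix.mul_assoc]
  let u₁ : Matrix.symplecticGroup (Fin (m + 3)) F := ⟨u1M F m, u1M_mem m⟩
  let gM : Matrix.symplecticGroup (Fin (m + 3)) F :=
    ⟨Matrix.fromBlocks M 0 0 M'ᵀ, Cfsg.Agent.H45.diag_mem_sp M M' hMM'⟩
  let w : Matrix.symplecticGroup (Fin (m + 3)) F := ⟨wM F m, Cfsg.Agent.H28.SpR.wM_mem m⟩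
  let u₂ : Matrix.symplecticGroup (Fin (m + 3)) F :=
    ⟨dU J₂ (M * Matrix.single (Fin.last (m + 2)) (Fin.last (m + 2)) (1 : F) * Mᵀ),
      dU_mem _ _ hS₂⟩
  let u₃ : Matrix.symplecticGroup (Fin (m + 3)) F := ⟨u3M F m, u3M_mem m⟩
  have e2 : gM * u₁ * gM⁻¹ = u₂ :=
    conj_eq_of_comm gM u₁ u₂ (Cfsg.Agent.H71.SpR.u2_form m M M' J₂ hMM' hM'M hJ₂)
  have e3 : w * u₁ * w⁻¹ = u₃ := conj_eq_of_comm w u₁ u₃ (Cfsg.Agent.H28.SpR.weyl_conj m)
  refine ⟨u₁, gM, w, (Cfsg.Agent.H62.SpR.u1M_regular m).1, (Cfsg.Agent.H62.SpR.u1M_regular m).2, ?_⟩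
  rw [e2, e3]
  generalize hH : Subgroup.closure ({u₁, u₂, u₃} :
    Set (Matrix.symplecticGroup (Fin (m + 3)) F)) = H
  have h1 : u₁ ∈ H := by rw [← hH]; exact Subgroup.subset_closure (by simp)
  have h2 : u₂ ∈ H := by rw [← hH]; exact Subgroup.subset_closure (by simp)
  have h3 : u₃ ∈ H := by rw [← hH]; exact Subgroup.subset_closure (by simp)
  -- lifts of all of SL
  have hd : ∀ g : Matrix.SpecialLinearGroup (Fin (m + 3)) F,
      ∃ S : Matrix (Fin (m + 3)) (Fin (m + 3)) F, Sᵀ = S ∧ ∃ x ∈ H,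
        (x : Matrix (Fin (m + 3) ⊕ Fin (m + 3)) (Fin (m + 3) ⊕ Fin (m + 3)) F) = dU g S := by
    intro g
    refine Cfsg.Agent.H71.SpR.lift_closure H {uniSL (m + 3) (1 : F), J₂} ?_ g (by rw [hgen]; trivial)
    intro g' hg'
    rcases hg' with rfl | hg'
    · exact ⟨_, hEs, u₁, h1, rfl⟩
    · rw [Set.mem_singleton_iff] at hg'
      subst hg'
      exact ⟨_, hS₂, u₂, h2, rfl⟩
  obtain ⟨K, hKmem, hKstab⟩ := Cfsg.Agent.H18.SpR.exists_upper_addSubgroup H hd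
  have hall : ∀ S : Matrix (Fin (m + 3)) (Fin (m + 3)) F, Sᵀ = S → S ∈ K := by
    by_cases hchar : (2 : F) = 0
    · obtain ⟨k, X, hXs, hX0, hpow⟩ := Cfsg.Agent.H25.SpR.exists_pow_upper (F := F) m hchar
      have hXK : X ∈ K :=
        (hKmem X).2 ⟨hXs, u₁ ^ k, pow_mem h1 k, by rw [SubmonoidClass.coe_pow]; exact hpow⟩
      have hA := Cfsg.Agent.H18.SpR.alt_full m hchar K hKstab X hXK hXs hX0
      have hA' : ∀ (i j : Fin (m + 3)) (c : F), i ≠ j → ∃ x ∈ H,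
          (x : Matrix (Fin (m + 3) ⊕ Fin (m + 3)) (Fin (m + 3) ⊕ Fin (m + 3)) F) =
            Matrix.fromBlocks 1 (Matrix.single i j c + Matrix.single j i c) 0 1 :=
        fun i j c hij => ((hKmem _).1 (hA i j c hij)).2
      obtain ⟨x, hx, hxc⟩ := Cfsg.Agent.H44.SpR.chain_two m hchar H u₁ u₃ rfl rfl h1 h3 hA'
      have hE : Matrix.single (Fin.last (m + 2)) (Fin.last (m + 2)) (1 : F) ∈ K :=
        (hKmem _).2 ⟨hEs, x, hx, hxc⟩
      exact Cfsg.Agent.H18.SpR.sym_full m K hKstab _ hE hEs (Fin.last _) (by simp)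
    · obtain ⟨T, hTs, y, hy, hyc⟩ := hd (uniSL (m + 3) (-1 : F))
      have hc0 : (-1 : F) ≠ 0 := by simp
      have hc1 : (-1 : F) ≠ 1 := by
        intro h
        apply hchar
        have h' : (1 : F) + 1 = 0 := by
          nth_rewrite 1 [← h]
          simp
        rw [← h', one_add_one_eq_two]
      obtain ⟨X, hXs, hX0, hX⟩ := Cfsg.Agent.H25.SpR.lift_trick m (-1 : F) hc0 hc1 T hTs
      have hXK : X ∈ K := by
        refine (hKmem X).2 ⟨hXs, y * u₁ * (u₁ * y)⁻¹, ?_, ?_⟩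
        · exact mul_mem (mul_mem hy h1) (inv_mem (mul_mem h1 hy))
        · have hyu : y * u₁ = (⟨Matrix.fromBlocks 1 X 0 1, Cfsg.Agent.H45.upper_mem_sp X hXs⟩ :
              Matrix.symplecticGroup (Fin (m + 3)) F) * (u₁ * y) := by
            apply Subtype.ext
            change (y : Matrix (Fin (m + 3) ⊕ Fin (m + 3)) (Fin (m + 3) ⊕ Fin (m + 3)) F) * u1M F m =
              Matrix.fromBlocks 1 X 0 1 * (u1M F m *
                (y : Matrix (Fin (m + 3) ⊕ Fin (m + 3)) (Fin (m + 3) ⊕ Fin (m + 3)) F))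
            rw [hyc]
            exact hX
          rw [hyu, mul_inv_cancel_right]
      exact Cfsg.Agent.H18.SpR.sym_full_odd m hchar K hKstab X hXK hXs hX0
  exact Cfsg.Agent.H28.SpR.top_of_parts m H
    (fun K hK X hX hXs j hj => Cfsg.Agent.H18.SpR.sym_full m K hK X hX hXs j hj)
    (fun S hS => ((hKmem S).1 (hall S hS)).2) hd u₃ rfl h3

theorem main [Fintype F] (n : ℕ) (hn : 2 ≤ n) (h22 : ¬ (n = 2 ∧ Fintype.card F = 2)) :
    ∃ u g h : Matrix.symplecticGroup (Fin n) F,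
      IsNilpotent ((u : Matrix (Fin n ⊕ Fin n) (Fin n ⊕ Fin n) F) - 1) ∧
      ((u : Matrix (Fin n ⊕ Fin n) (Fin n ⊕ Fin n) F) - 1) ^ (2 * n - 1) ≠ 0 ∧
      Subgroup.closure ({u, g * u * g⁻¹, h * u * h⁻¹} :
        Set (Matrix.symplecticGroup (Fin n) F)) = ⊤ := by
  obtain rfl | hn3 : n = 2 ∨ 3 ≤ n := by omega
  · by_cases h2 : (2 : F) = 0
    · exact Cfsg.Agent.H97.SpR.sp4_even h2 (fun h => h22 ⟨rfl, h⟩)
    · exact Cfsg.Agent.H27.SpR.sp4_odd h2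
  · obtain ⟨m, rfl⟩ : ∃ m, n = m + 3 := ⟨n - 3, by omega⟩
    exact main_ge3 m

end Cfsg.Agent.H97.SpRAsm
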