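import Mathlib
import Cfsg.Agent.H45.SpTwoGen

/-!
# S2281-N2E: `Sp_4(F)`, `F` finite of characteristic 2 with more than two elements, is generated
by three conjugate regular unipotents (helper97).
-/

set_option autoImplicit false
set_option linter.unusedSimpArgs false
set_option linter.unusedSectionVars false
set_option linter.unreachableTactic false
set_option linter.unusedTactic false
set_option linter.unusedVariables false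

namespace Cfsg.Agent.H97.SpR

open Matrix

variable {F : Type*} [Field F]

/-- A matrix over `Fin 2 ⊕ Fin 2` from its 16 entries (row by row, order `e0 e1 f0 f1`). -/
def mk4 (a00 a01 a02 a03 a10 a11 a12 a13 a20 a21 a22 a23 a30 a31 a32 a33 : F) :
    Matrix (Fin 2 ⊕ Fin 2) (Fin 2 ⊕ Fin 2) F :=
  Matrix.fromBlocks !![a00, a01; a10, a11] !![a02, a03; a12, a13]
    !![a20, a21; a30, a31] !![a22, a23; a32, a33]

theorem mk4_mul (a00 a01 a02 a03 a10 a11 a12 a13 a20 a21 a22 a23 a30 a31 a32 a33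
    b00 b01 b02 b03 b10 b11 b12 b13 b20 b21 b22 b23 b30 b31 b32 b33 : F) :
    mk4 a00 a01 a02 a03 a10 a11 a12 a13 a20 a21 a22 a23 a30 a31 a32 a33 *
      mk4 b00 b01 b02 b03 b10 b11 b12 b13 b20 b21 b22 b23 b30 b31 b32 b33 =
    mk4 (a00*b00 + a01*b10 + a02*b20 + a03*b30) (a00*b01 + a01*b11 + a02*b21 + a03*b31)
        (a00*b02 + a01*b12 + a02*b22 + a03*b32) (a00*b03 + a01*b13 + a02*b23 + a03*b33)
        (a10*b00 + a11*b10 + a12*b20 + a13*b30) (a10*b01 + a11*b11 + a12*b21 + a13*b31)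
        (a10*b02 + a11*b12 + a12*b22 + a13*b32) (a10*b03 + a11*b13 + a12*b23 + a13*b33)
        (a20*b00 + a21*b10 + a22*b20 + a23*b30) (a20*b01 + a21*b11 + a22*b21 + a23*b31)
        (a20*b02 + a21*b12 + a22*b22 + a23*b32) (a20*b03 + a21*b13 + a22*b23 + a23*b33)
        (a30*b00 + a31*b10 + a32*b20 + a33*b30) (a30*b01 + a31*b11 + a32*b21 + a33*b31)
        (a30*b02 + a31*b12 + a32*b22 + a33*b32) (a30*b03 + a31*b13 + a32*b23 + a33*b33) := by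
  unfold mk4
  rw [Matrix.fromBlocks_multiply, Matrix.fromBlocks_inj]
  refine ⟨?_, ?_, ?_, ?_⟩ <;>
    (ext i j; fin_cases i <;> fin_cases j <;> simp <;> ring)

theorem mk4_add (a00 a01 a02 a03 a10 a11 a12 a13 a20 a21 a22 a23 a30 a31 a32 a33
    b00 b01 b02 b03 b10 b11 b12 b13 b20 b21 b22 b23 b30 b31 b32 b33 : F) :
    mk4 a00 a01 a02 a03 a10 a11 a12 a13 a20 a21 a22 a23 a30 a31 a32 a33 +
      mk4 b00 b01 b02 b03 b10 b11 b12 b13 b20 b21 b22 b23 b30 b31 b32 b33 =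
    mk4 (a00 + b00) (a01 + b01) (a02 + b02) (a03 + b03) (a10 + b10) (a11 + b11) (a12 + b12)
      (a13 + b13) (a20 + b20) (a21 + b21) (a22 + b22) (a23 + b23) (a30 + b30) (a31 + b31)
      (a32 + b32) (a33 + b33) := by
  unfold mk4
  rw [Matrix.fromBlocks_add, Matrix.fromBlocks_inj]
  refine ⟨?_, ?_, ?_, ?_⟩ <;>
    (ext i j; fin_cases i <;> fin_cases j <;> simp)

theorem mk4_one : (1 : Matrix (Fin 2 ⊕ Fin 2) (Fin 2 ⊕ Fin 2) F) =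
    mk4 1 0 0 0 0 1 0 0 0 0 1 0 0 0 0 1 := by
  unfold mk4
  rw [← Matrix.fromBlocks_one, Matrix.fromBlocks_inj]
  refine ⟨?_, ?_, ?_, ?_⟩ <;>
    (ext i j; fin_cases i <;> fin_cases j <;> simp)

theorem mk4_zero : (mk4 0 0 0 0 0 0 0 0 0 0 0 0 0 0 0 0 :
    Matrix (Fin 2 ⊕ Fin 2) (Fin 2 ⊕ Fin 2) F) = 0 := by
  unfold mk4
  rw [← Matrix.fromBlocks_zero, Matrix.fromBlocks_inj]
  refine ⟨?_, ?_, ?_, ?_⟩ <;>
    (ext i j; fin_cases i <;> fin_cases j <;> simp)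

theorem mk4_inj {a00 a01 a02 a03 a10 a11 a12 a13 a20 a21 a22 a23 a30 a31 a32 a33
    b00 b01 b02 b03 b10 b11 b12 b13 b20 b21 b22 b23 b30 b31 b32 b33 : F}
    (h00 : a00 = b00) (h01 : a01 = b01) (h02 : a02 = b02) (h03 : a03 = b03)
    (h10 : a10 = b10) (h11 : a11 = b11) (h12 : a12 = b12) (h13 : a13 = b13)
    (h20 : a20 = b20) (h21 : a21 = b21) (h22 : a22 = b22) (h23 : a23 = b23)
    (h30 : a30 = b30) (h31 : a31 = b31) (h32 : a32 = b32) (h33 : a33 = b33) :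
    mk4 a00 a01 a02 a03 a10 a11 a12 a13 a20 a21 a22 a23 a30 a31 a32 a33 =
      mk4 b00 b01 b02 b03 b10 b11 b12 b13 b20 b21 b22 b23 b30 b31 b32 b33 := by
  subst_vars; rfl

theorem fromBlocks_eq_mk4 (A B C D : Matrix (Fin 2) (Fin 2) F) :
    Matrix.fromBlocks A B C D = mk4 (A 0 0) (A 0 1) (B 0 0) (B 0 1) (A 1 0) (A 1 1) (B 1 0)
      (B 1 1) (C 0 0) (C 0 1) (D 0 0) (D 0 1) (C 1 0) (C 1 1) (D 1 0) (D 1 1) := by
  unfold mk4
  rw [← Matrix.eta_fin_two A, ← Matrix.eta_fin_two B, ← Matrix.eta_fin_two C,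
    ← Matrix.eta_fin_two D]

def aM (F : Type*) [Field F] : Matrix (Fin 2 ⊕ Fin 2) (Fin 2 ⊕ Fin 2) F :=
  mk4 0 1 0 0 1 0 1 0 0 0 0 1 0 0 1 0

def aM' (F : Type*) [Field F] : Matrix (Fin 2 ⊕ Fin 2) (Fin 2 ⊕ Fin 2) F :=
  mk4 0 1 0 1 1 0 0 0 0 0 0 1 0 0 1 0

def cM (F : Type*) [Field F] : Matrix (Fin 2 ⊕ Fin 2) (Fin 2 ⊕ Fin 2) F :=
  mk4 0 1 0 0 1 1 1 0 0 0 1 1 1 1 0 0

def cM' (F : Type*) [Field F] : Matrix (Fin 2 ⊕ Fin 2) (Fin 2 ⊕ Fin 2) F :=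
  mk4 1 0 0 1 1 0 0 0 0 1 0 1 0 1 1 1

def hM (F : Type*) [Field F] : Matrix (Fin 2 ⊕ Fin 2) (Fin 2 ⊕ Fin 2) F :=
  mk4 1 0 0 0 0 1 0 0 0 1 1 0 1 1 0 1

def YM (F : Type*) [Field F] : Matrix (Fin 2 ⊕ Fin 2) (Fin 2 ⊕ Fin 2) F :=
  mk4 1 1 1 1 0 1 1 0 0 0 1 0 0 0 1 1

def Uxyz (x y z : F) : Matrix (Fin 2 ⊕ Fin 2) (Fin 2 ⊕ Fin 2) F :=
  mk4 1 0 x y 0 1 y z 0 0 1 0 0 0 0 1
def Lxyz (x y z : F) : Matrix (Fin 2 ⊕ Fin 2) (Fin 2 ⊕ Fin 2) F :=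
  mk4 1 0 0 0 0 1 0 0 x y 1 0 y z 0 1
def torM (s : F) : Matrix (Fin 2 ⊕ Fin 2) (Fin 2 ⊕ Fin 2) F :=
  mk4 s 0 0 0 0 s⁻¹ 0 0 0 0 s⁻¹ 0 0 0 0 s
def dT (e : F) : Matrix (Fin 2 ⊕ Fin 2) (Fin 2 ⊕ Fin 2) F :=
  mk4 1 e 0 0 0 1 0 0 0 0 1 0 0 0 e 1
def gM (t : F) : Matrix (Fin 2 ⊕ Fin 2) (Fin 2 ⊕ Fin 2) F :=
  mk4 1 0 0 0 0 t 0 0 0 0 1 0 0 0 0 t⁻¹

theorem aM_mul_aM' (h11 : (1 : F) + 1 = 0) :
    aM F * aM' F = 1 := by
  simp only [aM, cM, aM', cM', hM, YM, mk4_mul, mk4_one]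
  apply mk4_inj <;> simp [h11]

theorem cM_mul_cM' (h11 : (1 : F) + 1 = 0) :
    cM F * cM' F = 1 := by
  simp only [aM, cM, aM', cM', hM, YM, mk4_mul, mk4_one]
  apply mk4_inj <;> simp [h11]

theorem hM_mul_hM (h11 : (1 : F) + 1 = 0) :
    hM F * hM F = 1 := by
  simp only [aM, cM, aM', cM', hM, YM, mk4_mul, mk4_one]
  apply mk4_inj <;> simp [h11]

theorem YM_mul_YM (h11 : (1 : F) + 1 = 0) :
    YM F * YM F = 1 := by
  simp only [aM, cM, aM', cM', hM, YM, mk4_mul, mk4_one]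
  apply mk4_inj <;> simp [h11]

theorem hM_aM_hM (h11 : (1 : F) + 1 = 0) :
    hM F * aM F * hM F = cM F := by
  have s1 : hM F * aM F = mk4 0 1 0 0 1 0 1 0 1 0 1 1 1 1 0 0 := by
    simp only [aM, hM, mk4_mul]
    apply mk4_inj <;> simp [h11]
  rw [s1]
  simp only [cM, hM, mk4_mul]
  apply mk4_inj <;> simp [h11]

theorem word_X1 (h11 : (1 : F) + 1 = 0) :
    cM F * cM F * aM' F * cM F * cM F * aM' F * cM F = Uxyz 1 1 0 := by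
  have s1 : (cM F : Matrix (Fin 2 ⊕ Fin 2) (Fin 2 ⊕ Fin 2) F) * cM F =
      mk4 1 1 1 0 1 0 0 1 1 1 1 1 1 0 1 0 := by
    simp only [aM, cM, aM', cM', mk4_mul]
    apply mk4_inj <;> simp [h11]
  have s2 : (mk4 1 1 1 0 1 0 0 1 1 1 1 1 1 0 1 0 : Matrix (Fin 2 ⊕ Fin 2) (Fin 2 ⊕ Fin 2) F) * aM' F =
      mk4 1 1 0 0 0 1 1 1 1 1 1 0 0 1 0 0 := by
    simp only [aM, cM, aM', cM', mk4_mul]
    apply mk4_inj <;> simp [h11]
  have s3 : (mk4 1 1 0 0 0 1 1 1 1 1 1 0 0 1 0 0 : Matrix (Fin 2 ⊕ Fin 2) (Fin 2 ⊕ Fin 2) F) * cM F =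
      mk4 1 0 1 0 0 0 0 1 1 0 0 1 1 1 1 0 := by
    simp only [aM, cM, aM', cM', mk4_mul]
    apply mk4_inj <;> simp [h11]
  have s4 : (mk4 1 0 1 0 0 0 0 1 1 0 0 1 1 1 1 0 : Matrix (Fin 2 ⊕ Fin 2) (Fin 2 ⊕ Fin 2) F) * cM F =
      mk4 0 1 1 1 1 1 0 0 1 0 0 0 1 0 0 1 := by
    simp only [aM, cM, aM', cM', mk4_mul]
    apply mk4_inj <;> simp [h11]
  have s5 : (mk4 0 1 1 1 1 1 0 0 1 0 0 0 1 0 0 1 : Matrix (Fin 2 ⊕ Fin 2) (Fin 2 ⊕ Fin 2) F) * aM' F =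
      mk4 1 0 1 1 1 1 0 1 0 1 0 1 0 1 1 1 := by
    simp only [aM, cM, aM', cM', mk4_mul]
    apply mk4_inj <;> simp [h11]
  have s6 : (mk4 1 0 1 1 1 1 0 1 0 1 0 1 0 1 1 1 : Matrix (Fin 2 ⊕ Fin 2) (Fin 2 ⊕ Fin 2) F) * cM F =
      mk4 1 0 1 1 0 1 1 0 0 0 1 0 0 0 0 1 := by
    simp only [aM, cM, aM', cM', mk4_mul]
    apply mk4_inj <;> simp [h11]
  rw [s1, s2, s3, s4, s5, s6]
  rfl

theorem word_X2 (h11 : (1 : F) + 1 = 0) :
    aM' F * cM F * aM' F * cM F * cM F * aM' F * cM F * cM F = Uxyz 0 1 1 := by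
  have s1 : (aM' F : Matrix (Fin 2 ⊕ Fin 2) (Fin 2 ⊕ Fin 2) F) * cM F =
      mk4 0 0 1 0 0 1 0 0 1 1 0 0 0 0 1 1 := by
    simp only [aM, cM, aM', cM', mk4_mul]
    apply mk4_inj <;> simp [h11]
  have s2 : (mk4 0 0 1 0 0 1 0 0 1 1 0 0 0 0 1 1 : Matrix (Fin 2 ⊕ Fin 2) (Fin 2 ⊕ Fin 2) F) * aM' F =
      mk4 0 0 0 1 1 0 0 0 1 1 0 1 0 0 1 1 := by
    simp only [aM, cM, aM', cM', mk4_mul]
    apply mk4_inj <;> simp [h11]
  have s3 : (mk4 0 0 0 1 1 0 0 0 1 1 0 1 0 0 1 1 : Matrix (Fin 2 ⊕ Fin 2) (Fin 2 ⊕ Fin 2) F) * cM F =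
      mk4 1 1 0 0 0 1 0 0 0 1 1 0 1 1 1 1 := by
    simp only [aM, cM, aM', cM', mk4_mul]
    apply mk4_inj <;> simp [h11]
  have s4 : (mk4 1 1 0 0 0 1 0 0 0 1 1 0 1 1 1 1 : Matrix (Fin 2 ⊕ Fin 2) (Fin 2 ⊕ Fin 2) F) * cM F =
      mk4 1 0 1 0 1 1 1 0 1 1 0 1 0 1 0 1 := by
    simp only [aM, cM, aM', cM', mk4_mul]
    apply mk4_inj <;> simp [h11]
  have s5 : (mk4 1 0 1 0 1 1 1 0 1 1 0 1 0 1 0 1 : Matrix (Fin 2 ⊕ Fin 2) (Fin 2 ⊕ Fin 2) F) * aM' F =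
      mk4 0 1 0 0 1 1 0 0 1 1 1 1 1 0 1 0 := by
    simp only [aM, cM, aM', cM', mk4_mul]
    apply mk4_inj <;> simp [h11]
  have s6 : (mk4 0 1 0 0 1 1 0 0 1 1 1 1 1 0 1 0 : Matrix (Fin 2 ⊕ Fin 2) (Fin 2 ⊕ Fin 2) F) * cM F =
      mk4 1 1 1 0 1 0 1 0 0 1 0 1 0 1 1 1 := by
    simp only [aM, cM, aM', cM', mk4_mul]
    apply mk4_inj <;> simp [h11]
  have s7 : (mk4 1 1 1 0 1 0 1 0 0 1 0 1 0 1 1 1 : Matrix (Fin 2 ⊕ Fin 2) (Fin 2 ⊕ Fin 2) F) * cM F =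
      mk4 1 0 0 1 0 1 1 1 0 0 1 0 0 0 0 1 := by
    simp only [aM, cM, aM', cM', mk4_mul]
    apply mk4_inj <;> simp [h11]
  rw [s1, s2, s3, s4, s5, s6, s7]
  rfl

theorem word_Z1 (h11 : (1 : F) + 1 = 0) :
    aM F * cM' F * aM F * cM' F = Lxyz 1 1 0 := by
  have s1 : (aM F : Matrix (Fin 2 ⊕ Fin 2) (Fin 2 ⊕ Fin 2) F) * cM' F =
      mk4 1 0 0 0 1 1 0 0 0 1 1 1 0 1 0 1 := by
    simp only [aM, cM, aM', cM', mk4_mul]
    apply mk4_inj <;> simp [h11]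
  have s2 : (mk4 1 0 0 0 1 1 0 0 0 1 1 1 0 1 0 1 : Matrix (Fin 2 ⊕ Fin 2) (Fin 2 ⊕ Fin 2) F) * aM F =
      mk4 0 1 0 0 1 1 1 0 1 0 0 1 1 0 0 0 := by
    simp only [aM, cM, aM', cM', mk4_mul]
    apply mk4_inj <;> simp [h11]
  have s3 : (mk4 0 1 0 0 1 1 1 0 1 0 0 1 1 0 0 0 : Matrix (Fin 2 ⊕ Fin 2) (Fin 2 ⊕ Fin 2) F) * cM' F =
      mk4 1 0 0 0 0 1 0 0 1 1 1 0 1 0 0 1 := by
    simp only [aM, cM, aM', cM', mk4_mul]
    apply mk4_inj <;> simp [h11]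
  rw [s1, s2, s3]
  rfl

theorem word_Z2 (h11 : (1 : F) + 1 = 0) :
    aM F * cM F * aM F * cM F * aM F = Lxyz 0 1 1 := by
  have s1 : (aM F : Matrix (Fin 2 ⊕ Fin 2) (Fin 2 ⊕ Fin 2) F) * cM F =
      mk4 1 1 1 0 0 1 1 1 1 1 0 0 0 0 1 1 := by
    simp only [aM, cM, aM', cM', mk4_mul]
    apply mk4_inj <;> simp [h11]
  have s2 : (mk4 1 1 1 0 0 1 1 1 1 1 0 0 0 0 1 1 : Matrix (Fin 2 ⊕ Fin 2) (Fin 2 ⊕ Fin 2) F) * aM F =
      mk4 1 1 1 1 1 0 0 1 1 1 1 0 0 0 1 1 := by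
    simp only [aM, cM, aM', cM', mk4_mul]
    apply mk4_inj <;> simp [h11]
  have s3 : (mk4 1 1 1 1 1 0 0 1 1 1 1 0 0 0 1 1 : Matrix (Fin 2 ⊕ Fin 2) (Fin 2 ⊕ Fin 2) F) * cM F =
      mk4 0 1 0 1 1 0 0 0 1 0 0 1 1 1 1 1 := by
    simp only [aM, cM, aM', cM', mk4_mul]
    apply mk4_inj <;> simp [h11]
  have s4 : (mk4 0 1 0 1 1 0 0 0 1 0 0 1 1 1 1 1 : Matrix (Fin 2 ⊕ Fin 2) (Fin 2 ⊕ Fin 2) F) * aM F =
      mk4 1 0 0 0 0 1 0 0 0 1 1 0 1 1 0 1 := by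
    simp only [aM, cM, aM', cM', mk4_mul]
    apply mk4_inj <;> simp [h11]
  rw [s1, s2, s3, s4]
  rfl

theorem word_Y (h11 : (1 : F) + 1 = 0) :
    cM F * aM F * aM F * cM' F = YM F := by
  have s1 : (cM F : Matrix (Fin 2 ⊕ Fin 2) (Fin 2 ⊕ Fin 2) F) * aM F =
      mk4 1 0 1 0 1 1 1 1 0 0 1 1 1 1 1 0 := by
    simp only [aM, cM, aM', cM', mk4_mul]
    apply mk4_inj <;> simp [h11]
  have s2 : (mk4 1 0 1 0 1 1 1 1 0 0 1 1 1 1 1 0 : Matrix (Fin 2 ⊕ Fin 2) (Fin 2 ⊕ Fin 2) F) * aM F =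
      mk4 0 1 0 1 1 1 0 1 0 0 1 1 1 1 1 1 := by
    simp only [aM, cM, aM', cM', mk4_mul]
    apply mk4_inj <;> simp [h11]
  have s3 : (mk4 0 1 0 1 1 1 0 1 0 0 1 1 1 1 1 1 : Matrix (Fin 2 ⊕ Fin 2) (Fin 2 ⊕ Fin 2) F) * cM' F =
      mk4 1 1 1 1 0 1 1 0 0 0 1 0 0 0 1 1 := by
    simp only [aM, cM, aM', cM', mk4_mul]
    apply mk4_inj <;> simp [h11]
  rw [s1, s2, s3]
  rfl

theorem aM_sub_one (h11 : (1 : F) + 1 = 0) :
    aM F - 1 = mk4 1 1 0 0 1 1 1 0 0 0 1 1 0 0 1 1 := by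
  rw [sub_eq_iff_eq_add]
  simp only [aM, mk4_one, mk4_add]
  apply mk4_inj <;> simp [h11]
theorem aM_nil (h11 : (1 : F) + 1 = 0) : IsNilpotent (aM F - 1) := by
  refine ⟨4, ?_⟩
  rw [aM_sub_one h11, pow_succ, pow_three']
  have s1 : (mk4 1 1 0 0 1 1 1 0 0 0 1 1 0 0 1 1 : Matrix (Fin 2 ⊕ Fin 2) (Fin 2 ⊕ Fin 2) F) * mk4 1 1 0 0 1 1 1 0 0 0 1 1 0 0 1 1 =
      mk4 0 0 1 0 0 0 0 1 0 0 0 0 0 0 0 0 := by
    simp only [mk4_mul]
    apply mk4_inj <;> simp [h11]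
  have s2 : (mk4 0 0 1 0 0 0 0 1 0 0 0 0 0 0 0 0 : Matrix (Fin 2 ⊕ Fin 2) (Fin 2 ⊕ Fin 2) F) * mk4 1 1 0 0 1 1 1 0 0 0 1 1 0 0 1 1 =
      mk4 0 0 1 1 0 0 1 1 0 0 0 0 0 0 0 0 := by
    simp only [mk4_mul]
    apply mk4_inj <;> simp [h11]
  have s3 : (mk4 0 0 1 1 0 0 1 1 0 0 0 0 0 0 0 0 : Matrix (Fin 2 ⊕ Fin 2) (Fin 2 ⊕ Fin 2) F) * mk4 1 1 0 0 1 1 1 0 0 0 1 1 0 0 1 1 =
      mk4 0 0 0 0 0 0 0 0 0 0 0 0 0 0 0 0 := by
    simp only [mk4_mul]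
    apply mk4_inj <;> simp [h11]
  rw [s1, s2, s3]
  exact mk4_zero
theorem aM_reg (h11 : (1 : F) + 1 = 0) : (aM F - 1) ^ 3 ≠ 0 := by
  rw [aM_sub_one h11, pow_three']
  have s1 : (mk4 1 1 0 0 1 1 1 0 0 0 1 1 0 0 1 1 : Matrix (Fin 2 ⊕ Fin 2) (Fin 2 ⊕ Fin 2) F) * mk4 1 1 0 0 1 1 1 0 0 0 1 1 0 0 1 1 =
      mk4 0 0 1 0 0 0 0 1 0 0 0 0 0 0 0 0 := by
    simp only [mk4_mul]
    apply mk4_inj <;> simp [h11]
  have s2 : (mk4 0 0 1 0 0 0 0 1 0 0 0 0 0 0 0 0 : Matrix (Fin 2 ⊕ Fin 2) (Fin 2 ⊕ Fin 2) F) * mk4 1 1 0 0 1 1 1 0 0 0 1 1 0 0 1 1 =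
      mk4 0 0 1 1 0 0 1 1 0 0 0 0 0 0 0 0 := by
    simp only [mk4_mul]
    apply mk4_inj <;> simp [h11]
  rw [s1, s2]
  intro h
  have h' := congrFun (congrFun h (Sum.inl 0)) (Sum.inr 0)
  simp [mk4] at h'

/-! ### Parametrised identities -/

theorem Uxyz_congr {x y z x' y' z' : F} (hx : x = x') (hy : y = y') (hz : z = z') :
    Uxyz x y z = Uxyz x' y' z' := by subst_vars; rfl

theorem Lxyz_congr {x y z x' y' z' : F} (hx : x = x') (hy : y = y') (hz : z = z') :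
    Lxyz x y z = Lxyz x' y' z' := by subst_vars; rfl

theorem Uxyz_mul (x y z x' y' z' : F) :
    Uxyz x y z * Uxyz x' y' z' = Uxyz (x + x') (y + y') (z + z') := by
  simp only [Uxyz, mk4_mul]
  apply mk4_inj <;> ring1

theorem Lxyz_mul (x y z x' y' z' : F) :
    Lxyz x y z * Lxyz x' y' z' = Lxyz (x + x') (y + y') (z + z') := by
  simp only [Lxyz, mk4_mul]
  apply mk4_inj <;> ring1

theorem torM_mul (s r : F) : torM s * torM r = torM (s * r) := by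
  simp only [torM, mk4_mul]
  apply mk4_inj <;> (first | ring1 | (rw [mul_inv]; ring1))

theorem torM_one : torM (1 : F) = 1 := by
  simp only [torM, mk4_one]
  apply mk4_inj <;> simp

theorem torM_conj_U (s : F) (hs : s ≠ 0) (x y z : F) :
    torM s * Uxyz x y z * torM s⁻¹ = Uxyz (s ^ 2 * x) y ((s⁻¹) ^ 2 * z) := by
  simp only [torM, Uxyz, mk4_mul, inv_inv]
  apply mk4_inj <;> (first | ring1 | (field_simp; done) | (field_simp; ring1))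

theorem torM_conj_L (s : F) (hs : s ≠ 0) (x y z : F) :
    torM s * Lxyz x y z * torM s⁻¹ = Lxyz ((s⁻¹) ^ 2 * x) y (s ^ 2 * z) := by
  simp only [torM, Lxyz, mk4_mul, inv_inv]
  apply mk4_inj <;> (first | ring1 | (field_simp; done) | (field_simp; ring1))

theorem dT_mul_dT (h11 : (1 : F) + 1 = 0) (e : F) : dT e * dT e = 1 := by
  have hee : e + e = 0 := by linear_combination e * h11
  simp only [dT, mk4_mul, mk4_one]
  apply mk4_inj <;> (first | ring1 | linear_combination hee)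

theorem dT_conj_U (h11 : (1 : F) + 1 = 0) (e r : F) :
    dT e * Uxyz 0 0 r * dT e = Uxyz (r * e ^ 2) (r * e) r := by
  simp only [dT, Uxyz, mk4_mul]
  apply mk4_inj <;> (first | ring1 | linear_combination e * h11)

theorem dT_conj_L (h11 : (1 : F) + 1 = 0) (e r : F) :
    dT e * Lxyz r 0 0 * dT e = Lxyz r (r * e) (r * e ^ 2) := by
  simp only [dT, Lxyz, mk4_mul]
  apply mk4_inj <;> (first | ring1 | linear_combination e * h11)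

theorem torM_conj_Y (h11 : (1 : F) + 1 = 0) (s : F) (hs : s ≠ 0) :
    torM s * YM F * torM s⁻¹ * YM F = dT (s ^ 2 + 1) := by
  have e1 : torM s * YM F * torM s⁻¹ =
      mk4 1 (s ^ 2) (s ^ 2) 1 0 1 1 0 0 0 1 0 0 0 (s ^ 2) 1 := by
    simp only [torM, YM, mk4_mul, inv_inv]
    apply mk4_inj <;> (first | ring1 | (field_simp; done) | (field_simp; ring1))
  rw [e1]
  simp only [YM, dT, mk4_mul]
  apply mk4_inj <;>
    (first | ring1 | linear_combination h11 | linear_combination (1 + s ^ 2) * h11)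

theorem gM_mul_gM (t : F) (ht : t ≠ 0) : gM t * gM t⁻¹ = 1 := by
  simp only [gM, mk4_mul, mk4_one, inv_inv]
  apply mk4_inj <;> (first | ring1 | (field_simp; done) | (field_simp; ring1))

theorem tor_word (h11 : (1 : F) + 1 = 0) (t : F) (ht : t ≠ 0) :
    aM F * (gM t * aM' F * gM t⁻¹) = torM t := by
  have e1 : gM t * aM' F * gM t⁻¹ = mk4 0 t⁻¹ 0 t t 0 0 0 0 0 0 t 0 0 t⁻¹ 0 := by
    simp only [gM, aM', mk4_mul, inv_inv]
    apply mk4_inj <;> (first | ring1 | (field_simp; done) | (field_simp; ring1))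
  rw [e1]
  simp only [aM, torM, mk4_mul]
  apply mk4_inj <;> (first | ring1 | linear_combination t * h11)


/-! ### Membership in a subgroup, at the level of matrices -/

theorem sp_coe_inv_eq {k : ℕ} (x : Matrix.symplecticGroup (Fin k) F)
    (x' : Matrix (Fin k ⊕ Fin k) (Fin k ⊕ Fin k) F)
    (h : (x : Matrix (Fin k ⊕ Fin k) (Fin k ⊕ Fin k) F) * x' = 1) :
    ((x⁻¹ : Matrix.symplecticGroup (Fin k) F) : Matrix (Fin k ⊕ Fin k) (Fin k ⊕ Fin k) F) = x' := by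
  have h1 : ((x⁻¹ : Matrix.symplecticGroup (Fin k) F) :
      Matrix (Fin k ⊕ Fin k) (Fin k ⊕ Fin k) F) *
      (x : Matrix (Fin k ⊕ Fin k) (Fin k ⊕ Fin k) F) = 1 := by
    rw [← Submonoid.coe_mul, inv_mul_cancel, Submonoid.coe_one]
  calc ((x⁻¹ : Matrix.symplecticGroup (Fin k) F) : Matrix (Fin k ⊕ Fin k) (Fin k ⊕ Fin k) F)
      = ((x⁻¹ : Matrix.symplecticGroup (Fin k) F) : Matrix (Fin k ⊕ Fin k) (Fin k ⊕ Fin k) F) *
          ((x : Matrix (Fin k ⊕ Fin k) (Fin k ⊕ Fin k) F) * x') := by rw [h, mul_one]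
    _ = x' := by rw [← mul_assoc, h1, one_mul]

/-- The matrix `x` is (the coercion of) an element of `H`. -/
def inH (H : Subgroup (Matrix.symplecticGroup (Fin 2) F))
    (x : Matrix (Fin 2 ⊕ Fin 2) (Fin 2 ⊕ Fin 2) F) : Prop :=
  ∃ y ∈ H, (y : Matrix (Fin 2 ⊕ Fin 2) (Fin 2 ⊕ Fin 2) F) = x

theorem inH_mul {H : Subgroup (Matrix.symplecticGroup (Fin 2) F)}
    {x x' : Matrix (Fin 2 ⊕ Fin 2) (Fin 2 ⊕ Fin 2) F} (h : inH H x) (h' : inH H x') :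
    inH H (x * x') := by
  obtain ⟨y, hy, rfl⟩ := h
  obtain ⟨y', hy', rfl⟩ := h'
  exact ⟨y * y', H.mul_mem hy hy', rfl⟩

theorem inH_inv {H : Subgroup (Matrix.symplecticGroup (Fin 2) F)}
    {x x' : Matrix (Fin 2 ⊕ Fin 2) (Fin 2 ⊕ Fin 2) F} (h : inH H x) (hx : x * x' = 1) :
    inH H x' := by
  obtain ⟨y, hy, rfl⟩ := h
  exact ⟨y⁻¹, H.inv_mem hy, sp_coe_inv_eq y x' hx⟩

theorem inH_one (H : Subgroup (Matrix.symplecticGroup (Fin 2) F)) : inH H 1 :=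
  ⟨1, H.one_mem, rfl⟩

/-! ### The field lemmas -/

theorem exists_ne_zero_one [Fintype F] (hq : Fintype.card F ≠ 2) :
    ∃ s : F, s ≠ 0 ∧ s ≠ 1 := by
  classical
  by_contra hcon
  push Not at hcon
  have h1 : Fintype.card F ≤ ({0, 1} : Finset F).card := by
    rw [← Finset.card_univ]
    apply Finset.card_le_card
    intro x _
    by_cases hx : x = 0
    · simp [hx]
    · simp [hcon x hx]
  have h2 : ({0, 1} : Finset F).card ≤ 2 := Finset.card_le_two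
  have h3 := Fintype.one_lt_card (α := F)
  omega

theorem exists_sq_param [Fintype F] (h2 : (2 : F) = 0) (s₀ : F) (hs0 : s₀ ≠ 0)
    (he : s₀ ^ 2 + 1 ≠ 0) (c : F) :
    ∃ r s : F, r ≠ 0 ∧ s ≠ 0 ∧ r ^ 2 * (s ^ 2 + 1) = c := by
  have h11 : (1 : F) + 1 = 0 := by rw [one_add_one_eq_two]; exact h2
  by_cases hc : c = 0
  · exact ⟨1, 1, one_ne_zero, one_ne_zero, by rw [hc]; simp [h11]⟩
  · have : CharP F 2 := CharTwo.of_one_ne_zero_of_two_eq_zero one_ne_zero h2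
    obtain ⟨r, hr⟩ := FiniteField.isSquare_of_char_two (ringChar.eq F 2) (c / (s₀ ^ 2 + 1))
    refine ⟨r, s₀, ?_, hs0, ?_⟩
    · rintro rfl
      rw [mul_zero, div_eq_zero_iff] at hr
      rcases hr with hr | hr
      · exact hc hr
      · exact he hr
    · rw [pow_two r, ← hr]
      field_simp

/-! ### The core: a subgroup containing `a`, its `g`-conjugate and `c` is everything -/

theorem sp4_even_core [Fintype F] (h2 : (2 : F) = 0) (hq : Fintype.card F ≠ 2)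
    (H : Subgroup (Matrix.symplecticGroup (Fin 2) F)) (μ : Fˣ)
    (hμ : ∀ y : Fˣ, y ∈ Subgroup.zpowers μ)
    (ha : inH H (aM F)) (hu2 : inH H (gM (μ : F) * aM F * gM ((μ : F)⁻¹)))
    (hc : inH H (cM F)) : H = ⊤ := by
  classical
  have h11 : (1 : F) + 1 = 0 := by rw [one_add_one_eq_two]; exact h2
  have hxx : ∀ x : F, x + x = 0 := fun x => by linear_combination x * h11
  have hμ0 : (μ : F) ≠ 0 := μ.ne_zero
  have ha' : inH H (aM' F) := inH_inv ha (aM_mul_aM' h11)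
  have hc' : inH H (cM' F) := inH_inv hc (cM_mul_cM' h11)
  -- the torus
  have hu2' : inH H (gM (μ : F) * aM' F * gM ((μ : F)⁻¹)) := by
    refine inH_inv hu2 ?_
    have e1 : gM ((μ : F)⁻¹) * gM (μ : F) = 1 := by
      have := gM_mul_gM ((μ : F)⁻¹) (inv_ne_zero hμ0)
      rwa [inv_inv] at this
    calc gM (μ : F) * aM F * gM ((μ : F)⁻¹) * (gM (μ : F) * aM' F * gM ((μ : F)⁻¹))
        = gM (μ : F) * aM F * (gM ((μ : F)⁻¹) * gM (μ : F)) * aM' F * gM ((μ : F)⁻¹) := by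
          simp only [mul_assoc]
      _ = gM (μ : F) * (aM F * aM' F) * gM ((μ : F)⁻¹) := by
          rw [e1, mul_one]; simp only [mul_assoc]
      _ = 1 := by rw [aM_mul_aM' h11, mul_one, gM_mul_gM _ hμ0]
  have htμ : inH H (torM (μ : F)) := by
    have := inH_mul ha hu2'
    rwa [tor_word h11 _ hμ0] at this
  have htpow : ∀ n : ℕ, inH H (torM (((μ ^ n : Fˣ) : F))) := by
    intro n
    induction n with
    | zero => rw [pow_zero, Units.val_one, torM_one]; exact inH_one H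
    | succ n ih =>
      rw [pow_succ, Units.val_mul, ← torM_mul]
      exact inH_mul ih htμ
  have ht : ∀ s : F, s ≠ 0 → inH H (torM s) := by
    intro s hs
    obtain ⟨n, hn⟩ := mem_powers_iff_mem_zpowers.2 (hμ (Units.mk0 s hs))
    have := htpow n
    have hn' : μ ^ n = Units.mk0 s hs := hn
    rwa [hn', Units.val_mk0] at this
  -- conjugation by the torus
  have hconjU : ∀ (x y z : F), inH H (Uxyz x y z) → ∀ s : F, s ≠ 0 →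
      inH H (Uxyz (s ^ 2 * x) y ((s⁻¹) ^ 2 * z)) := by
    intro x y z h s hs
    have := inH_mul (inH_mul (ht s hs) h) (ht s⁻¹ (inv_ne_zero hs))
    rwa [torM_conj_U s hs] at this
  have hconjL : ∀ (x y z : F), inH H (Lxyz x y z) → ∀ s : F, s ≠ 0 →
      inH H (Lxyz ((s⁻¹) ^ 2 * x) y (s ^ 2 * z)) := by
    intro x y z h s hs
    have := inH_mul (inH_mul (ht s hs) h) (ht s⁻¹ (inv_ne_zero hs))
    rwa [torM_conj_L s hs] at this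
  -- the five words
  have hX1 : inH H (Uxyz 1 1 0) := by
    rw [← word_X1 h11]
    exact inH_mul (inH_mul (inH_mul (inH_mul (inH_mul (inH_mul hc hc) ha') hc) hc) ha') hc
  have hX2 : inH H (Uxyz 0 1 1) := by
    rw [← word_X2 h11]
    exact inH_mul (inH_mul (inH_mul (inH_mul (inH_mul (inH_mul (inH_mul ha' hc) ha') hc) hc)
      ha') hc) hc
  have hZ1 : inH H (Lxyz 1 1 0) := by
    rw [← word_Z1 h11]
    exact inH_mul (inH_mul (inH_mul ha hc') ha) hc'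
  have hZ2 : inH H (Lxyz 0 1 1) := by
    rw [← word_Z2 h11]
    exact inH_mul (inH_mul (inH_mul (inH_mul ha hc) ha) hc) ha
  have hY : inH H (YM F) := by
    rw [← word_Y h11]
    exact inH_mul (inH_mul (inH_mul hc ha) ha) hc'
  -- parameters
  obtain ⟨s₀, hs0, hs1⟩ := exists_ne_zero_one (F := F) hq
  have he : s₀ ^ 2 + 1 ≠ 0 := by
    intro h
    have h' : (s₀ + 1) ^ 2 = 0 := by linear_combination h + s₀ * h11
    have h'' : s₀ + 1 = 0 := by simpa using h'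
    apply hs1
    linear_combination h'' - h11
  -- the four spreads
  have hP1 : ∀ c : F, inH H (Uxyz c 0 0) := by
    intro c
    obtain ⟨r, s, hr, hs, hrs⟩ := exists_sq_param h2 s₀ hs0 he c
    have h1 := hconjU _ _ _ hX1 s hs
    have h2' := inH_mul h1 hX1
    rw [Uxyz_mul] at h2'
    have h3 := hconjU _ _ _ h2' r hr
    have e : Uxyz (r ^ 2 * (s ^ 2 * 1 + 1)) (1 + 1) (r⁻¹ ^ 2 * (s⁻¹ ^ 2 * 0 + 0)) =
        Uxyz c 0 0 := Uxyz_congr (by rw [mul_one]; exact hrs) h11 (by simp)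
    rwa [e] at h3
  have hP2 : ∀ c : F, inH H (Uxyz 0 0 c) := by
    intro c
    obtain ⟨r, s, hr, hs, hrs⟩ := exists_sq_param h2 s₀ hs0 he c
    have h1 := hconjU _ _ _ hX2 s⁻¹ (inv_ne_zero hs)
    have h2' := inH_mul h1 hX2
    rw [Uxyz_mul] at h2'
    have h3 := hconjU _ _ _ h2' r⁻¹ (inv_ne_zero hr)
    have e : Uxyz (r⁻¹ ^ 2 * (s⁻¹ ^ 2 * 0 + 0)) (1 + 1) (r⁻¹⁻¹ ^ 2 * (s⁻¹⁻¹ ^ 2 * 1 + 1)) =
        Uxyz 0 0 c := Uxyz_congr (by simp) h11 (by rw [inv_inv, inv_inv, mul_one]; exact hrs)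
    rwa [e] at h3
  have hP3 : ∀ c : F, inH H (Lxyz c 0 0) := by
    intro c
    obtain ⟨r, s, hr, hs, hrs⟩ := exists_sq_param h2 s₀ hs0 he c
    have h1 := hconjL _ _ _ hZ1 s⁻¹ (inv_ne_zero hs)
    have h2' := inH_mul h1 hZ1
    rw [Lxyz_mul] at h2'
    have h3 := hconjL _ _ _ h2' r⁻¹ (inv_ne_zero hr)
    have e : Lxyz (r⁻¹⁻¹ ^ 2 * (s⁻¹⁻¹ ^ 2 * 1 + 1)) (1 + 1) (r⁻¹ ^ 2 * (s⁻¹ ^ 2 * 0 + 0)) =
        Lxyz c 0 0 := Lxyz_congr (by rw [inv_inv, inv_inv, mul_one]; exact hrs) h11 (by simp)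
    rwa [e] at h3
  have hP4 : ∀ c : F, inH H (Lxyz 0 0 c) := by
    intro c
    obtain ⟨r, s, hr, hs, hrs⟩ := exists_sq_param h2 s₀ hs0 he c
    have h1 := hconjL _ _ _ hZ2 s hs
    have h2' := inH_mul h1 hZ2
    rw [Lxyz_mul] at h2'
    have h3 := hconjL _ _ _ h2' r hr
    have e : Lxyz (r⁻¹ ^ 2 * (s⁻¹ ^ 2 * 0 + 0)) (1 + 1) (r ^ 2 * (s ^ 2 * 1 + 1)) =
        Lxyz 0 0 c := Lxyz_congr (by simp) h11 (by rw [mul_one]; exact hrs)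
    rwa [e] at h3
  -- the Levi transvection
  have hdT : inH H (dT (s₀ ^ 2 + 1)) := by
    have := inH_mul (inH_mul (inH_mul (ht s₀ hs0) hY) (ht s₀⁻¹ (inv_ne_zero hs0))) hY
    rwa [torM_conj_Y h11 s₀ hs0] at this
  -- the off-diagonal parts
  have hP5 : ∀ y : F, inH H (Uxyz 0 y 0) := by
    intro y
    have h1 := inH_mul (inH_mul hdT (hP2 (y / (s₀ ^ 2 + 1)))) hdT
    rw [dT_conj_U h11] at h1
    have h2' := inH_mul (inH_mul h1 (hP1 (y / (s₀ ^ 2 + 1) * (s₀ ^ 2 + 1) ^ 2)))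
      (hP2 (y / (s₀ ^ 2 + 1)))
    rw [Uxyz_mul, Uxyz_mul] at h2'
    have e : Uxyz (y / (s₀ ^ 2 + 1) * (s₀ ^ 2 + 1) ^ 2 + y / (s₀ ^ 2 + 1) * (s₀ ^ 2 + 1) ^ 2 + 0)
        (y / (s₀ ^ 2 + 1) * (s₀ ^ 2 + 1) + 0 + 0) (y / (s₀ ^ 2 + 1) + 0 + y / (s₀ ^ 2 + 1)) =
        Uxyz 0 y 0 :=
      Uxyz_congr (by rw [hxx, add_zero]) (by rw [add_zero, add_zero, div_mul_cancel₀ _ he]) (by rw [add_zero, hxx])
    rwa [e] at h2'
  have hP6 : ∀ y : F, inH H (Lxyz 0 y 0) := by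
    intro y
    have h1 := inH_mul (inH_mul hdT (hP3 (y / (s₀ ^ 2 + 1)))) hdT
    rw [dT_conj_L h11] at h1
    have h2' := inH_mul (inH_mul h1 (hP3 (y / (s₀ ^ 2 + 1))))
      (hP4 (y / (s₀ ^ 2 + 1) * (s₀ ^ 2 + 1) ^ 2))
    rw [Lxyz_mul, Lxyz_mul] at h2'
    have e : Lxyz (y / (s₀ ^ 2 + 1) + y / (s₀ ^ 2 + 1) + 0)
        (y / (s₀ ^ 2 + 1) * (s₀ ^ 2 + 1) + 0 + 0)
        (y / (s₀ ^ 2 + 1) * (s₀ ^ 2 + 1) ^ 2 + 0 + y / (s₀ ^ 2 + 1) * (s₀ ^ 2 + 1) ^ 2) =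
        Lxyz 0 y 0 :=
      Lxyz_congr (by rw [hxx, add_zero]) (by rw [add_zero, add_zero, div_mul_cancel₀ _ he]) (by rw [add_zero, hxx])
    rwa [e] at h2'
  -- conclusion
  apply Cfsg.Agent.H45.sp_eq_top_of_upper_lower
  · intro S hS
    have h10 : S 1 0 = S 0 1 := by
      have := congrFun (congrFun hS 1) 0
      rw [Matrix.transpose_apply] at this
      exact this.symm
    have h1 := inH_mul (inH_mul (hP1 (S 0 0)) (hP5 (S 0 1))) (hP2 (S 1 1))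
    rw [Uxyz_mul, Uxyz_mul] at h1
    have e : Uxyz (S 0 0 + 0 + 0) (0 + S 0 1 + 0) (0 + 0 + S 1 1) =
        Matrix.fromBlocks 1 S 0 1 := by
      rw [fromBlocks_eq_mk4]
      unfold Uxyz
      apply mk4_inj <;> simp [h10]
    rw [e] at h1
    exact h1
  · intro R hR
    have h10 : R 1 0 = R 0 1 := by
      have := congrFun (congrFun hR 1) 0
      rw [Matrix.transpose_apply] at this
      exact this.symm
    have h1 := inH_mul (inH_mul (hP3 (R 0 0)) (hP6 (R 0 1))) (hP4 (R 1 1))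
    rw [Lxyz_mul, Lxyz_mul] at h1
    have e : Lxyz (R 0 0 + 0 + 0) (0 + R 0 1 + 0) (0 + 0 + R 1 1) =
        Matrix.fromBlocks 1 0 R 1 := by
      rw [fromBlocks_eq_mk4]
      unfold Lxyz
      apply mk4_inj <;> simp [h10]
    rw [e] at h1
    exact h1

/-- **S2281-N2E**. -/
theorem sp4_even [Fintype F] (h2 : (2 : F) = 0) (hq : Fintype.card F ≠ 2) :
    ∃ u g h : Matrix.symplecticGroup (Fin 2) F,
      IsNilpotent ((u : Matrix (Fin 2 ⊕ Fin 2) (Fin 2 ⊕ Fin 2) F) - 1) ∧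
      ((u : Matrix (Fin 2 ⊕ Fin 2) (Fin 2 ⊕ Fin 2) F) - 1) ^ 3 ≠ 0 ∧
      Subgroup.closure ({u, g * u * g⁻¹, h * u * h⁻¹} :
        Set (Matrix.symplecticGroup (Fin 2) F)) = ⊤ := by
  classical
  have h11 : (1 : F) + 1 = 0 := by rw [one_add_one_eq_two]; exact h2
  obtain ⟨μ, hμ⟩ := IsCyclic.exists_generator (α := Fˣ)
  have hμ0 : (μ : F) ≠ 0 := μ.ne_zero
  have hJJ : (!![0, 1; 1, 0] : Matrix (Fin 2) (Fin 2) F) * !![0, 1; 1, 0] = 1 := by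
    rw [Matrix.mul_fin_two, Matrix.one_fin_two]; simp
  have hE : (!![1, 0; 0, 0] : Matrix (Fin 2) (Fin 2) F)ᵀ = !![1, 0; 0, 0] := by
    ext i j; fin_cases i <;> fin_cases j <;> rfl
  have hR : (!![0, 1; 1, 1] : Matrix (Fin 2) (Fin 2) F)ᵀ = !![0, 1; 1, 1] := by
    ext i j; fin_cases i <;> fin_cases j <;> rfl
  have hDD : (!![1, 0; 0, (μ : F)] : Matrix (Fin 2) (Fin 2) F) * !![1, 0; 0, (μ : F)⁻¹] = 1 := by
    rw [Matrix.mul_fin_two, Matrix.one_fin_two]; simp [hμ0]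
  let u : Matrix.symplecticGroup (Fin 2) F :=
    ⟨_, Cfsg.Agent.H45.diag_mem_sp _ _ hJJ⟩ * ⟨_, Cfsg.Agent.H45.upper_mem_sp _ hE⟩
  let g : Matrix.symplecticGroup (Fin 2) F := ⟨_, Cfsg.Agent.H45.diag_mem_sp _ _ hDD⟩
  let h : Matrix.symplecticGroup (Fin 2) F := ⟨_, Cfsg.Agent.H45.lower_mem_sp _ hR⟩
  have hu : (u : Matrix (Fin 2 ⊕ Fin 2) (Fin 2 ⊕ Fin 2) F) = aM F := by
    change Matrix.fromBlocks !![0, 1; 1, 0] 0 0 (!![0, 1; 1, 0] : Matrix (Fin 2) (Fin 2) F)ᵀ *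
      Matrix.fromBlocks 1 !![1, 0; 0, 0] 0 1 = aM F
    rw [fromBlocks_eq_mk4, fromBlocks_eq_mk4, mk4_mul]
    unfold aM
    apply mk4_inj <;> simp
  have hg : (g : Matrix (Fin 2 ⊕ Fin 2) (Fin 2 ⊕ Fin 2) F) = gM (μ : F) := by
    change Matrix.fromBlocks !![1, 0; 0, (μ : F)] 0 0
      (!![1, 0; 0, (μ : F)⁻¹] : Matrix (Fin 2) (Fin 2) F)ᵀ = gM (μ : F)
    rw [fromBlocks_eq_mk4]
    unfold gM
    apply mk4_inj <;> simp
  have hh : (h : Matrix (Fin 2 ⊕ Fin 2) (Fin 2 ⊕ Fin 2) F) = hM F := by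
    change Matrix.fromBlocks 1 0 !![0, 1; 1, 1] 1 = hM F
    rw [fromBlocks_eq_mk4]
    unfold hM
    apply mk4_inj <;> simp
  refine ⟨u, g, h, ?_, ?_, ?_⟩
  · rw [hu]; exact aM_nil h11
  · rw [hu]; exact aM_reg h11
  · generalize hH : Subgroup.closure ({u, g * u * g⁻¹, h * u * h⁻¹} :
      Set (Matrix.symplecticGroup (Fin 2) F)) = H
    have m1 : u ∈ H := by rw [← hH]; exact Subgroup.subset_closure (by simp)
    have m2 : g * u * g⁻¹ ∈ H := by rw [← hH]; exact Subgroup.subset_closure (by simp)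
    have m3 : h * u * h⁻¹ ∈ H := by rw [← hH]; exact Subgroup.subset_closure (by simp)
    have ha : inH H (aM F) := ⟨u, m1, hu⟩
    have hu2 : inH H (gM (μ : F) * aM F * gM ((μ : F)⁻¹)) := by
      refine ⟨g * u * g⁻¹, m2, ?_⟩
      rw [Submonoid.coe_mul, Submonoid.coe_mul, hu, hg,
        sp_coe_inv_eq g (gM ((μ : F)⁻¹)) (by rw [hg]; exact gM_mul_gM _ hμ0)]
    have hc : inH H (cM F) := by
      refine ⟨h * u * h⁻¹, m3, ?_⟩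
      rw [Submonoid.coe_mul, Submonoid.coe_mul, hu, hh,
        sp_coe_inv_eq h (hM F) (by rw [hh]; exact hM_mul_hM h11)]
      exact hM_aM_hM h11
    exact sp4_even_core h2 hq H μ hμ ha hu2 hc

end Cfsg.Agent.H97.SpR
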