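import Mathlib
import Cfsg.Agent.H97.SuLAsm
import Cfsg.Agent.H12.SuLEMul
import Cfsg.Agent.H12.SuLEConj
import Cfsg.Agent.H12.SuLEScal
import Cfsg.Agent.H12.SuLAMove
import Cfsg.Agent.H91.SuLHeis
import Cfsg.Agent.H91.SuLSTI
import Cfsg.Agent.H67.SuLZChar
import Cfsg.Agent.H67.SuLJoint
import Cfsg.Agent.H19.SuLFq
import Cfsg.Agent.H19.SuLFSep
import Cfsg.Agent.H19.SuLCSA
import Cfsg.Agent.H19.SuLCSB
import Cfsg.Agent.H19.SuLCSolve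
import Cfsg.Agent.H98.SuLZMult
import Cfsg.Agent.H98.SuLAlMult
import Cfsg.Agent.H98.SuLASub
import Cfsg.Agent.H11.SuLVec
import Cfsg.Agent.H11.SuLEnumM
import Cfsg.Agent.H60.SuLRInd
import Cfsg.Agent.H60.SuLREig
import Cfsg.Agent.H60.SuLRNt
import Cfsg.Agent.Helper55.SuLZMove
import Cfsg.Agent.Helper55.SuLTFix
import Cfsg.Agent.H8.SuLTor1
import Cfsg.Agent.H8.SuLTor2
import Cfsg.Agent.H8.SuLRootConj
import Cfsg.Agent.H35.SuLArith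
import Cfsg.Agent.H35.SuLEnum
import Cfsg.Agent.H3.SuLFormEmb
import Cfsg.Agent.H3.SuLEmbE
import Cfsg.Agent.H3.SuLEmb
import Cfsg.Agent.H3.SuLComm

/-!
# S2334 / S2335 (team project, helper97): the landed pieces plugged into the assembly.
-/

set_option autoImplicit false

namespace Cfsg.Agent.H97.SuL

universe u

theorem pc_zmult : StZMult.{u} := Cfsg.Agent.H98.SuL.zMult Cfsg.Agent.H12.SuL.eMul

theorem pc_rnt : StRNt.{u} := Cfsg.Agent.H60.SuL.rnt Cfsg.Agent.H60.SuL.reig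

theorem pc_zchar : StZChar.{u} := Cfsg.Agent.H67.SuL.zChar pc_rnt Cfsg.Agent.H12.SuL.eMul

theorem pc_zmove : StZMove.{u} :=
  Cfsg.Agent.Helper55.SuL.zMove Cfsg.Agent.H12.SuL.eConj Cfsg.Agent.H12.SuL.eScal

theorem pc_heis : StHeis.{u} :=
  Cfsg.Agent.H91.SuL.heis
    (Cfsg.Agent.H98.SuL.asub Cfsg.Agent.H12.SuL.eMul Cfsg.Agent.H12.SuL.aMove
      Cfsg.Agent.H3.SuL.stFormEmb)
    Cfsg.Agent.H12.SuL.aMove Cfsg.Agent.H19.SuL.fSep Cfsg.Agent.H3.SuL.stFormEmb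
    Cfsg.Agent.H60.SuL.rind Cfsg.Agent.H60.SuL.reig pc_zmult Cfsg.Agent.H11.SuL.enumM

theorem pc_sti : StI.{u} :=
  Cfsg.Agent.H91.SuL.sti pc_zchar Cfsg.Agent.H8.SuL.tor1 pc_zmove pc_zmult Cfsg.Agent.H19.SuL.zInj
    Cfsg.Agent.H35.SuL.enum pc_heis Cfsg.Agent.H60.SuL.rind

theorem pc_tfix : StTFix.{u} :=
  Cfsg.Agent.Helper55.SuL.tFix
    (Cfsg.Agent.H67.SuL.joint pc_rnt Cfsg.Agent.H60.SuL.reig Cfsg.Agent.H12.SuL.eMul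
      Cfsg.Agent.H12.SuL.aMove Cfsg.Agent.H12.SuL.eConj)
    Cfsg.Agent.H3.SuL.stComm
    (Cfsg.Agent.H19.SuL.cSolve Cfsg.Agent.H19.SuL.cSA Cfsg.Agent.H19.SuL.cSB)
    pc_zmult (Cfsg.Agent.H98.SuL.alMult Cfsg.Agent.H12.SuL.eMul) Cfsg.Agent.H12.SuL.aMove

/-- S2334. -/
theorem s2334 {F : Type u} [Field F] [Fintype F] (n q : ℕ) (hn : 3 ≤ n) (hodd : Odd n)
    (hF : Fintype.card F = q ^ 2) (hex : (n, q) ≠ (3, 2)) :
    ∀ (k : ℕ) (ρ : Representation ℂ (Cfsg.SU n F q) (Fin k → ℂ)), ρ.IsIrreducible → 2 ≤ k →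
      (q ^ n - q) / (q + 1) ≤ k :=
  final_odd (Cfsg.Agent.H8.SuL.rootConj Cfsg.Agent.H12.SuL.eConj) Cfsg.Agent.H11.SuL.vec
    Cfsg.Agent.H3.SuL.stFormEmb pc_tfix pc_sti Cfsg.Agent.H3.SuL.stEmb Cfsg.Agent.H3.SuL.stEmbE
    Cfsg.Agent.H12.SuL.eConj Cfsg.Agent.H35.SuL.arith n q hn hodd hF hex

/-- S2335 from the last piece (CT). -/
theorem s2335_of (hCT : StCT.{u}) {F : Type u} [Field F] [Fintype F] (n q : ℕ) (hn : 4 ≤ n)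
    (heven : Even n) (hF : Fintype.card F = q ^ 2) :
    ∀ (k : ℕ) (ρ : Representation ℂ (Cfsg.SU n F q) (Fin k → ℂ)), ρ.IsIrreducible → 2 ≤ k →
      (q ^ n - 1) / (q + 1) ≤ k :=
  final_even (Cfsg.Agent.H8.SuL.rootConj Cfsg.Agent.H12.SuL.eConj) Cfsg.Agent.H11.SuL.vec
    Cfsg.Agent.H3.SuL.stFormEmb pc_tfix pc_sti Cfsg.Agent.H3.SuL.stEmb Cfsg.Agent.H3.SuL.stEmbE
    Cfsg.Agent.H12.SuL.eConj hCT Cfsg.Agent.H35.SuL.arith n q hn heven hF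

end Cfsg.Agent.H97.SuL
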