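import Mathlib
import Cfsg.Agent.H97.SuLWire
import Cfsg.Agent.Helper55.SuLCT

/-!
# S2335 (team project, helper97): the last piece (CT) plugged into the assembly.
-/

set_option autoImplicit false

namespace Cfsg.Agent.H97.SuL

universe u

theorem pc_ct : StCT.{u} :=
  Cfsg.Agent.Helper55.SuL.ct Cfsg.Agent.H8.SuL.tor2 pc_zchar pc_zmove pc_zmult
    Cfsg.Agent.H19.SuL.zInj Cfsg.Agent.H35.SuL.enum Cfsg.Agent.H60.SuL.rind
    Cfsg.Agent.H12.SuL.eConj

/-- S2335. -/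
theorem s2335 {F : Type u} [Field F] [Fintype F] (n q : ℕ) (hn : 4 ≤ n)
    (heven : Even n) (hF : Fintype.card F = q ^ 2) :
    ∀ (k : ℕ) (ρ : Representation ℂ (Cfsg.SU n F q) (Fin k → ℂ)), ρ.IsIrreducible → 2 ≤ k →
      (q ^ n - 1) / (q + 1) ≤ k :=
  s2335_of pc_ct n q hn heven hF

end Cfsg.Agent.H97.SuL
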