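import Mathlib
import Cfsg.Agent.H97.SuRDefs
import Cfsg.Agent.H28.SpRWeyl
import Cfsg.Agent.H44.SpRLevi
import Cfsg.Agent.S2283
import Cfsg.Agent.H11.SuRLift
import Cfsg.Agent.H11.SuRQL1
import Cfsg.Agent.H11.SuRQU1
import Cfsg.Agent.H24.SuRCohC
import Cfsg.Agent.H24.SuRData2E
import Cfsg.Agent.H28.SuRCohB
import Cfsg.Agent.H28.SuRIrrT
import Cfsg.Agent.H28.SuRReg
import Cfsg.Agent.H28.SuRWeyl
import Cfsg.Agent.H44.SuRLevi2
import Cfsg.Agent.H44.SuRTransfer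
import Cfsg.Agent.H51.SuRExd
import Cfsg.Agent.H51.SuRPure
import Cfsg.Agent.H54.SuRCohA
import Cfsg.Agent.H67.SuRQU3
import Cfsg.Agent.H70.SuRSq
import Cfsg.Agent.H70.SuRU2
import Cfsg.Agent.H84.SuRCohG
import Cfsg.Agent.H98.SuRQL2
import Cfsg.Agent.H98.SuRQU2

/-!
# S2282 assembly (helper97): `SU_n(q)`, `n ≥ 3` odd, `(n, q) ≠ (3, 2)`, is generated by three
conjugate regular unipotents.  Pieces by many helpers (see the imports).
-/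

set_option autoImplicit false

namespace Cfsg.Agent.H97.SuRAsm
open Matrix Cfsg.Agent.H45.U Cfsg.Agent.H97.SuR

variable {F : Type*} [Field F]

theorem exists_S (σ : F →+* F) (hσ : ∀ a, σ (σ a) = a) (hσ1 : σ ≠ RingHom.id F) {k : ℕ}
    (c : Matrix (Fin k) (Fin 1) F) :
    ∃ S : Matrix (Fin k) (Fin k) F, S + ct σ S + c * ct σ c = 0 := by
  obtain ⟨τ, hτ⟩ := Cfsg.Agent.H17.exists_trace_eq σ hσ1 hσ (-1 : F) (by rw [map_neg, map_one])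
  refine ⟨τ • (c * ct σ c), ?_⟩
  rw [ct_smul, ct_mul, ct_ct σ hσ]
  calc τ • (c * ct σ c) + σ τ • (c * ct σ c) + c * ct σ c
      = (τ + σ τ + 1) • (c * ct σ c) := by rw [add_smul, add_smul, one_smul]
    _ = 0 := by rw [hτ]; simp

theorem conj_coe {σ : F →+* F} {k : ℕ} (g u : ↥(UH σ (Fin k) (Fin 1)))
    (X : Matrix (Fin k ⊕ (Fin k ⊕ Fin 1)) (Fin k ⊕ (Fin k ⊕ Fin 1)) F)
    (h : g.1.1 * u.1.1 = X * g.1.1) : (g * u * g⁻¹).1.1 = X := by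
  have h1 : g.1.1 * (g⁻¹).1.1 = 1 := by
    rw [← UH_mul_coe, mul_inv_cancel, UH_one_coe]
  rw [UH_mul_coe, UH_mul_coe, h, Matrix.mul_assoc, h1, Matrix.mul_one]

theorem cE_ne_zero (k : ℕ) (hk : 1 ≤ k) : cE F k ≠ 0 := by
  intro h
  have h1 := congrFun (congrFun h ⟨k - 1, by omega⟩) (0 : Fin 1)
  have h2 : (k - 1) + 1 = k := by omega
  simp [cE, h2] at h1

theorem cocycle_coboundary [Fintype F] {k : ℕ} (hk : 2 ≤ k) (hk3 : 3 ≤ k ∨ (2 : F) ≠ 0)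
    (hF4 : 4 ≤ Fintype.card F)
    (s : Matrix.SpecialLinearGroup (Fin k) F → Matrix (Fin k) (Fin 1) F) (hs : Coc s) :
    ∃ v₀ : Matrix (Fin k) (Fin 1) F, ∀ g : Matrix.SpecialLinearGroup (Fin k) F,
      s g = ((g⁻¹ : Matrix.SpecialLinearGroup (Fin k) F) : Matrix (Fin k) (Fin k) F) * v₀ - v₀ := by
  obtain ⟨v₀, hv₀⟩ := Cfsg.Agent.H54.SuR.coh_diag hk (by omega) s hs
  refine ⟨v₀, ?_⟩
  let s' : Matrix.SpecialLinearGroup (Fin k) F → Matrix (Fin k) (Fin 1) F := fun g =>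
    s g - (((g⁻¹ : Matrix.SpecialLinearGroup (Fin k) F) : Matrix (Fin k) (Fin k) F) * v₀ - v₀)
  have hs' : Coc s' := by
    intro g g'
    show s (g * g') - (((g * g')⁻¹ : Matrix.SpecialLinearGroup (Fin k) F).1 * v₀ - v₀) =
      (g'⁻¹ : Matrix.SpecialLinearGroup (Fin k) F).1 *
        (s g - ((g⁻¹ : Matrix.SpecialLinearGroup (Fin k) F).1 * v₀ - v₀)) +
      (s g' - ((g'⁻¹ : Matrix.SpecialLinearGroup (Fin k) F).1 * v₀ - v₀))
    have e : ((g * g')⁻¹ : Matrix.SpecialLinearGroup (Fin k) F).1 =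
        (g'⁻¹ : Matrix.SpecialLinearGroup (Fin k) F).1 *
          (g⁻¹ : Matrix.SpecialLinearGroup (Fin k) F).1 := by
      rw [_root_.mul_inv_rev]; rfl
    rw [hs g g', e, Matrix.mul_sub, Matrix.mul_sub, Matrix.mul_assoc]
    abel
  have hd' : ∀ g : Matrix.SpecialLinearGroup (Fin k) F, IsDiag g → s' g = 0 := by
    intro g hg
    show s g - _ = 0
    rw [hv₀ g hg, sub_self]
  have hall : ∀ g : Matrix.SpecialLinearGroup (Fin k) F, s' g = 0 := by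
    rcases hk3 with h3 | h2
    · exact Cfsg.Agent.H24.SuR.coh_gen s' hs' (Cfsg.Agent.H28.SuR.coh_root h3 hF4 s' hs' hd')
    · by_cases h3 : 3 ≤ k
      · exact Cfsg.Agent.H24.SuR.coh_gen s' hs' (Cfsg.Agent.H28.SuR.coh_root h3 hF4 s' hs' hd')
      · obtain rfl : k = 2 := by omega
        exact Cfsg.Agent.H24.SuR.coh_two h2 s' hs' hd'
  intro g
  have := hall g
  exact sub_eq_zero.mp this

/-- The "nonzero translation" principle from cohomology (Levi image all of `SL_k`). -/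
theorem hne_of_coh [Fintype F] (σ : F →+* F) {k : ℕ} (hk : 2 ≤ k) (hk3 : 3 ≤ k ∨ (2 : F) ≠ 0)
    (hF4 : 4 ≤ Fintype.card F) (H : Subgroup ↥(UH σ (Fin k) (Fin 1)))
    (S : Matrix (Fin k) (Fin k) F) (x : ↥(UH σ (Fin k) (Fin 1)))
    (hx1 : x.1.1 = dE σ (Cfsg.Agent.H97.SpR.uniSL k (1 : F)) (cE F k) S) (hx : x ∈ H)
    (hd : LiftsU σ H (Set.univ : Set (Matrix.SpecialLinearGroup (Fin k) F))) :
    ∃ (c : Matrix (Fin k) (Fin 1) F) (S' : Matrix (Fin k) (Fin k) F), c ≠ 0 ∧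
      ∃ y ∈ H, y.1.1 = eU σ c S' := by
  by_contra hcon
  have hzero : ∀ (c : Matrix (Fin k) (Fin 1) F) (S' : Matrix (Fin k) (Fin k) F),
      (∃ y ∈ H, y.1.1 = eU σ c S') → c = 0 := by
    intro c S' hy
    by_contra hc
    exact hcon ⟨c, S', hc, hy⟩
  obtain ⟨s, hs, hsl⟩ := Cfsg.Agent.H84.SuR.exists_cocycle σ H hd hzero
  obtain ⟨v₀, hv₀⟩ := cocycle_coboundary hk hk3 hF4 s hs
  have h1 := hsl _ _ S ⟨x, hx, hx1⟩
  rw [hv₀] at h1
  exact Cfsg.Agent.H84.SuR.cE_not_coboundary k (by omega) v₀ h1.symm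

/-- The core: three conjugate regular unipotents generate `UH σ (Fin k) (Fin 1)`. -/
theorem main_of_data (σ : F →+* F) (hσ : ∀ a, σ (σ a) = a) (hσ1 : σ ≠ RingHom.id F)
    (k : ℕ) (hk : 2 ≤ k)
    (hgen : ∀ K : Subgroup ↥(UH σ (Fin k) (Fin 1)), Qin σ K → Qlow σ K → K = ⊤)
    (M M' : Matrix (Fin k) (Fin k) F) (J₂ : Matrix.SpecialLinearGroup (Fin k) F)
    (h1 : M * M' = 1) (h2 : M' * M = 1)
    (hJ : (J₂ : Matrix (Fin k) (Fin k) F) = M * Cfsg.Agent.H97.SpR.uniM k (1 : F) * M')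
    (T : Set (Matrix.SpecialLinearGroup (Fin k) F))
    (hT : T ⊆ (Subgroup.closure ({Cfsg.Agent.H97.SpR.uniSL k (1 : F), J₂} :
      Set (Matrix.SpecialLinearGroup (Fin k) F)) : Set (Matrix.SpecialLinearGroup (Fin k) F)))
    (hJT : Cfsg.Agent.H97.SpR.uniSL k (1 : F) ∈ T)
    (hirr : IrrU T) (hirr' : IrrL σ T)
    (hne : ∀ (H : Subgroup ↥(UH σ (Fin k) (Fin 1)))
      (S : Matrix (Fin k) (Fin k) F) (x : ↥(UH σ (Fin k) (Fin 1))),
      x.1.1 = dE σ (Cfsg.Agent.H97.SpR.uniSL k (1 : F)) (cE F k) S →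
      x ∈ H →
      LiftsU σ H
        (Subgroup.closure ({Cfsg.Agent.H97.SpR.uniSL k (1 : F), J₂} :
          Set (Matrix.SpecialLinearGroup (Fin k) F)) :
          Set (Matrix.SpecialLinearGroup (Fin k) F)) →
      ∃ (c : Matrix (Fin k) (Fin 1) F) (S' : Matrix (Fin k) (Fin k) F), c ≠ 0 ∧
        ∃ y ∈ H, y.1.1 = eU σ c S') :
    ∃ u g h : ↥(UH σ (Fin k) (Fin 1)),
      (IsNilpotent (u.1.1 - 1) ∧ (u.1.1 - 1) ^ (2 * k) ≠ 0) ∧
      Subgroup.closure ({u, g * u * g⁻¹, h * u * h⁻¹} :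
        Set ↥(UH σ (Fin k) (Fin 1))) = ⊤ := by
  classical
  -- the three elements
  obtain ⟨S₁, hS₁⟩ := exists_S σ hσ hσ1 (cE F k)
  obtain ⟨e₁, he₁⟩ := Cfsg.Agent.H11.U.exists_eU σ hσ (cE F k) S₁ hS₁
  obtain ⟨dJ, hdJ⟩ := Cfsg.Agent.H51.SuR.exists_dU σ hσ (Cfsg.Agent.H97.SpR.uniSL k (1 : F))
  obtain ⟨t, t', dM, htt, htu, hdM⟩ := Cfsg.Agent.H51.SuR.exists_dM σ hσ M M' h1 h2
  obtain ⟨ν, ν', w, hνν, hνu, hw⟩ := Cfsg.Agent.H51.SuR.exists_w (F := F) σ hσ k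
  have hu₁ : (dJ * e₁).1.1 = dE σ (Cfsg.Agent.H97.SpR.uniSL k (1 : F)) (cE F k) S₁ := by
    rw [UH_mul_coe, hdJ, he₁]
    unfold dF dE
    rw [eL_zero, Matrix.mul_one]
  generalize dJ * e₁ = u₁ at hu₁
  have hu₂ : (dM * u₁ * dM⁻¹).1.1 = dE σ J₂ (M * cE F k * t') (M * S₁ * ct σ M) := by
    apply conj_coe
    rw [hdM, hu₁]
    exact Cfsg.Agent.H70.SuR.u2_form σ M M' t t' J₂ h1 h2 htt htu hJ _ _
  have hu₃ : (w * u₁ * w⁻¹).1.1 = dF σ (Cfsg.Agent.H97.SpR.uniSL k (1 : F))⁻¹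
      (Cfsg.Agent.H97.SpR.revP F k * cE F k * ν')
      (Cfsg.Agent.H97.SpR.revP F k * S₁ * ct σ (Cfsg.Agent.H97.SpR.revP F k)) := by
    apply conj_coe
    rw [hw, hu₁]
    exact Cfsg.Agent.H28.SuR.weyl_form σ hσ k ν ν' hνν hνu _ _
  refine ⟨u₁, dM, w, ?_, ?_⟩
  · rw [hu₁]
    exact Cfsg.Agent.H28.SuR.u1_regular σ k (by omega) S₁
  generalize hH : Subgroup.closure ({u₁, dM * u₁ * dM⁻¹, w * u₁ * w⁻¹} :
    Set ↥(UH σ (Fin k) (Fin 1))) = H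
  have m1 : u₁ ∈ H := by rw [← hH]; exact Subgroup.subset_closure (by simp)
  have m2 : dM * u₁ * dM⁻¹ ∈ H := by rw [← hH]; exact Subgroup.subset_closure (by simp)
  have m3 : w * u₁ * w⁻¹ ∈ H := by rw [← hH]; exact Subgroup.subset_closure (by simp)
  -- lifts
  have hl0 : LiftsU σ H ({Cfsg.Agent.H97.SpR.uniSL k (1 : F), J₂} :
      Set (Matrix.SpecialLinearGroup (Fin k) F)) := by
    intro g hg
    rcases hg with rfl | hg
    · exact ⟨_, _, u₁, m1, hu₁⟩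
    · rw [Set.mem_singleton_iff] at hg
      subst hg
      exact ⟨_, _, _, m2, hu₂⟩
  have hl1 := Cfsg.Agent.H11.SuR.lift_closure σ H _ hl0
  have hlT : LiftsU σ H T := fun g hg => hl1 g (hT hg)
  -- the upper unipotent radical
  have hne' := hne H S₁ u₁ hu₁ m1 hl1
  have hc := Cfsg.Agent.H11.SuR.upper_all_c σ hσ H T hirr hlT hne'
  have hz := Cfsg.Agent.H98.SuR.upper_center σ hσ hσ1 H hc
  have hQ : Qin σ H := Cfsg.Agent.H67.SuR.qin_of_parts σ hσ H hc hz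
  -- pure Levi elements
  have hp := Cfsg.Agent.H51.SuR.pure_levi σ hσ H T hQ hlT
  have hlL : LiftsL σ H T := fun g hg => by
    obtain ⟨x, hx, hx1⟩ := hp g hg
    exact ⟨0, 0, x, hx, hx1⟩
  -- the lower unipotent radical
  obtain ⟨xJ, hxJ, hxJ1⟩ := hp _ hJT
  obtain ⟨z, hz3, hz31⟩ := Cfsg.Agent.H51.SuR.lower_ne σ H (Cfsg.Agent.H97.SpR.uniSL k (1 : F)) _ _ xJ
    (w * u₁ * w⁻¹) hxJ m3 hxJ1 hu₃
  have hc3 : Cfsg.Agent.H97.SpR.revP F k * cE F k * ν' ≠ 0 := by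
    intro h0
    apply cE_ne_zero (F := F) k (by omega)
    have e : cE F k = Cfsg.Agent.H97.SpR.revP F k *
        (Cfsg.Agent.H97.SpR.revP F k * cE F k * ν') * ν := by
      have e' : Cfsg.Agent.H97.SpR.revP F k * (Cfsg.Agent.H97.SpR.revP F k * cE F k * ν') * ν =
          (Cfsg.Agent.H97.SpR.revP F k * Cfsg.Agent.H97.SpR.revP F k) * cE F k * (ν' * ν) := by
        simp only [Matrix.mul_assoc]
      rw [e', hνν, Cfsg.Agent.H28.SpR.revP_mul_revP, Matrix.one_mul, Matrix.mul_one]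
    rw [e, h0, Matrix.mul_zero, Matrix.zero_mul]
  have hc' := Cfsg.Agent.H11.SuR.lower_all_c σ hσ H T hirr' hlL ⟨_, _, hc3, z, hz3, hz31⟩
  have hz' := Cfsg.Agent.H98.SuR.lower_center σ hσ hσ1 H hc'
  have hQ' : Qlow σ H := Cfsg.Agent.H67.SuR.qlow_of_parts σ hσ H hc' hz'
  exact hgen H hQ hQ'

/-- Three conjugate regular unipotents generate `UH (frobHom hF) (Fin k) (Fin 1)`, `k ≥ 2`. -/
theorem main_uh [Fintype F] {q : ℕ} (hF : Fintype.card F = q ^ 2) (k : ℕ) (hk : 2 ≤ k) :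
    ∃ u g h : ↥(UH (Cfsg.Agent.H17.frobHom hF) (Fin k) (Fin 1)),
      (IsNilpotent (u.1.1 - 1) ∧ (u.1.1 - 1) ^ (2 * k) ≠ 0) ∧
      Subgroup.closure ({u, g * u * g⁻¹, h * u * h⁻¹} :
        Set ↥(UH (Cfsg.Agent.H17.frobHom hF) (Fin k) (Fin 1))) = ⊤ := by
  classical
  have hσ : ∀ a, (Cfsg.Agent.H17.frobHom hF) ((Cfsg.Agent.H17.frobHom hF) a) = a :=
    Cfsg.Agent.H17.frobHom_invol hF
  have hσ1 : Cfsg.Agent.H17.frobHom hF ≠ RingHom.id F := Cfsg.Agent.H17.frobHom_ne_id hF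
  have hq2 : 2 ≤ q := Cfsg.Agent.H17.two_le_of_card_sq hF
  have hF4 : 4 ≤ Fintype.card F := by rw [hF]; nlinarith
  have hgen : ∀ K : Subgroup ↥(UH (Cfsg.Agent.H17.frobHom hF) (Fin k) (Fin 1)),
      Qin (Cfsg.Agent.H17.frobHom hF) K → Qlow (Cfsg.Agent.H17.frobHom hF) K → K = ⊤ :=
    fun K hU hL => Cfsg.Agent.H11.U.uh_gen hF k 1 (by omega) (by omega) (by omega) K hU hL
  -- the case where the Levi image is all of `SL_k`
  have hfull : ∀ (M M' : Matrix (Fin k) (Fin k) F) (J₂ : Matrix.SpecialLinearGroup (Fin k) F),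
      M * M' = 1 → M' * M = 1 →
      (J₂ : Matrix (Fin k) (Fin k) F) = M * Cfsg.Agent.H97.SpR.uniM k (1 : F) * M' →
      Subgroup.closure ({Cfsg.Agent.H97.SpR.uniSL k (1 : F), J₂} :
        Set (Matrix.SpecialLinearGroup (Fin k) F)) = ⊤ →
      (3 ≤ k ∨ (2 : F) ≠ 0) →
      ∃ u g h : ↥(UH (Cfsg.Agent.H17.frobHom hF) (Fin k) (Fin 1)),
        (IsNilpotent (u.1.1 - 1) ∧ (u.1.1 - 1) ^ (2 * k) ≠ 0) ∧
        Subgroup.closure ({u, g * u * g⁻¹, h * u * h⁻¹} :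
          Set ↥(UH (Cfsg.Agent.H17.frobHom hF) (Fin k) (Fin 1))) = ⊤ := by
    intro M M' J₂ h1 h2 hJ hcl hk3
    have hirr := Cfsg.Agent.H28.SuR.irr_top (F := F) (Cfsg.Agent.H17.frobHom hF) hσ hk
    refine main_of_data (Cfsg.Agent.H17.frobHom hF) hσ hσ1 k hk hgen M M' J₂ h1 h2 hJ Set.univ
      (by rw [hcl]; intro x _; trivial) (Set.mem_univ _) hirr.1 hirr.2 ?_
    intro H S x hx1 hx hl
    rw [hcl] at hl
    exact hne_of_coh (Cfsg.Agent.H17.frobHom hF) hk hk3 hF4 H S x hx1 hx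
      (fun g _ => hl g (by trivial))
  by_cases hk3 : 3 ≤ k
  · obtain ⟨m, rfl⟩ : ∃ m, k = m + 3 := ⟨k - 3, by omega⟩
    obtain ⟨M, M', J₂, h1, h2, hJ, hcl⟩ := Cfsg.Agent.H44.SpR.levi_gen (F := F) m
    exact hfull M M' J₂ h1 h2 hJ hcl (Or.inl hk3)
  · obtain rfl : k = 2 := by omega
    by_cases h2F : (2 : F) = 0
    · obtain ⟨M, M', J₂, h1, h2, hJ, hirr, hirr'⟩ :=
        Cfsg.Agent.H24.SuR.data_two_even (F := F) (Cfsg.Agent.H17.frobHom hF) hσ h2F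
      refine main_of_data (Cfsg.Agent.H17.frobHom hF) hσ hσ1 2 hk hgen M M' J₂ h1 h2 hJ
        {Cfsg.Agent.H97.SpR.uniSL 2 (1 : F), J₂} Subgroup.subset_closure (by simp) hirr hirr' ?_
      intro H S x hx1 hx _
      obtain ⟨c', S', hc', hsq⟩ := Cfsg.Agent.H70.SuR.sq_upper (Cfsg.Agent.H17.frobHom hF) h2F S
      exact ⟨c', S', hc', x * x, H.mul_mem hx hx, by rw [UH_mul_coe, hx1]; exact hsq⟩
    · obtain ⟨M, M', J₂, h1, h2, hJ, hcl⟩ := Cfsg.Agent.H44.SuR.levi_two_odd (F := F) h2F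
      exact hfull M M' J₂ h1 h2 hJ hcl (Or.inr h2F)

/-- **S2282**. -/
theorem main [Fintype F] (q : ℕ) (hF : Fintype.card F = q ^ 2) (n : ℕ) (hn : 3 ≤ n)
    (hodd : Odd n) (h32 : ¬ (n = 3 ∧ q = 2)) :
    ∃ u g h : ↥(Cfsg.SU n F q),
      (IsNilpotent (((u : Matrix.SpecialLinearGroup (Fin n) F) : Matrix (Fin n) (Fin n) F) - 1) ∧
        (((u : Matrix.SpecialLinearGroup (Fin n) F) : Matrix (Fin n) (Fin n) F) - 1) ^ (n - 1) ≠ 0) ∧
      Subgroup.closure ({u, g * u * g⁻¹, h * u * h⁻¹} : Set ↥(Cfsg.SU n F q)) = ⊤ := by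
  have hq2 : 2 ≤ q := Cfsg.Agent.H17.two_le_of_card_sq hF
  by_cases h3 : n = 3
  · subst h3
    have hq3 : 3 ≤ q := by
      by_contra hcon
      exact h32 ⟨rfl, by omega⟩
    obtain ⟨u, g, hu, hcl⟩ := Cfsg.Agent.S2283.result q hq3 hF
    refine ⟨u, g, 1, hu, ?_⟩
    rw [one_mul, inv_one, mul_one]
    rw [← hcl]
    congr 1
    ext x
    simp only [Set.mem_insert_iff, Set.mem_singleton_iff]
    tauto
  · obtain ⟨k, hk⟩ := hodd
    have hk2 : 2 ≤ k := by omega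
    exact Cfsg.Agent.H44.SuR.transfer hF k n (by omega) (main_uh hF k hk2)

end Cfsg.Agent.H97.SuRAsm
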