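import Cfsg.Agent.H19.SxDefs

/-!
# SX-W (piece of EXIST, helper19): the offender counting `|[Ω₁(Z(K ∩ Q)), K]| = 4`
-/

set_option autoImplicit false
open Cfsg
open scoped commutatorElement

universe u

namespace Cfsg.Agent.H97.Sx

variable {X : Type u} [Group X]

theorem memZ (P : Subgroup X) {z : X} (hz : z ∈ omegaCenterOf P) :
    z ∈ P ∧ (∀ p ∈ P, p * z = z * p) ∧ z * z = 1 := by
  unfold omegaCenterOf omegaOne at hz
  induction hz using Subgroup.closure_induction with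
  | mem y hy =>
    refine ⟨(Subgroup.mem_inf.mp hy.1).1, fun p hp => ?_, ?_⟩
    · exact (Subgroup.mem_centralizer_iff.mp (Subgroup.mem_inf.mp hy.1).2) p hp
    · have := hy.2
      rwa [pow_two] at this
  | one => exact ⟨one_mem _, fun p _ => by simp, by simp⟩
  | mul a b _ _ ha hb =>
    refine ⟨mul_mem ha.1 hb.1, fun p hp => ?_, ?_⟩
    · rw [← mul_assoc, ha.2.1 p hp, mul_assoc, hb.2.1 p hp, mul_assoc]
    · have hc : b * a = a * b := ha.2.1 b hb.1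
      calc a * b * (a * b) = a * (b * a) * b := by group
        _ = a * (a * b) * b := by rw [hc]
        _ = (a * a) * (b * b) := by group
        _ = 1 := by rw [ha.2.2, hb.2.2, one_mul]
  | inv a _ ha =>
    refine ⟨inv_mem ha.1, fun p hp => ?_, ?_⟩
    · have h := ha.2.1 p hp
      calc p * a⁻¹ = a⁻¹ * (a * p) * a⁻¹ := by group
        _ = a⁻¹ * (p * a) * a⁻¹ := by rw [h]
        _ = a⁻¹ * p := by group
    · calc a⁻¹ * a⁻¹ = (a * a)⁻¹ := by group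
        _ = 1 := by rw [ha.2.2, inv_one]

theorem Z_of (P : Subgroup X) {z : X} (h1 : z ∈ P) (h2 : ∀ p ∈ P, p * z = z * p)
    (h3 : z * z = 1) : z ∈ omegaCenterOf P := by
  unfold omegaCenterOf omegaOne
  refine Subgroup.subset_closure ⟨Subgroup.mem_inf.mpr ⟨h1, ?_⟩, ?_⟩
  · exact Subgroup.mem_centralizer_iff.mpr h2
  · rw [pow_two]; exact h3

theorem elemAb_closure (S : Set X) (hc : ∀ s ∈ S, ∀ t ∈ S, s * t = t * s)
    (h2 : ∀ s ∈ S, s * s = 1) : IsElementaryAbelian 2 (Subgroup.closure S) := by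
  have hcomm : ∀ g ∈ Subgroup.closure S, ∀ h ∈ Subgroup.closure S, g * h = h * g := by
    intro g hg h hh
    have h1 : Subgroup.closure S ≤ Subgroup.centralizer (Subgroup.closure S : Set X) := by
      rw [Subgroup.closure_le]
      intro s hs
      rw [SetLike.mem_coe, Subgroup.mem_centralizer_iff]
      intro y hy
      have h2 : Subgroup.closure S ≤ Subgroup.centralizer ({s} : Set X) := by
        rw [Subgroup.closure_le]
        intro t ht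
        rw [SetLike.mem_coe, Subgroup.mem_centralizer_iff]
        intro r hr
        rw [Set.mem_singleton_iff] at hr
        subst hr
        exact hc r hs t ht
      exact (Subgroup.mem_centralizer_iff.mp (h2 hy) s rfl).symm
    exact (Subgroup.mem_centralizer_iff.mp (h1 hg) h hh).symm
  refine ⟨⟨⟨fun a b => Subtype.ext (hcomm a.1 a.2 b.1 b.2)⟩⟩, ?_⟩
  intro g hg
  induction hg using Subgroup.closure_induction with
  | mem y hy => rw [pow_two]; exact h2 y hy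
  | one => simp
  | mul a b ha hb iha ihb =>
    have hab : a * b = b * a := hcomm a ha b hb
    rw [pow_two] at iha ihb ⊢
    calc a * b * (a * b) = a * (b * a) * b := by group
      _ = a * (a * b) * b := by rw [← hab]
      _ = (a * a) * (b * b) := by group
      _ = 1 := by rw [iha, ihb, one_mul]
  | inv a ha iha =>
    rw [pow_two] at iha ⊢
    calc a⁻¹ * a⁻¹ = (a * a)⁻¹ := by group
      _ = 1 := by rw [iha, inv_one]

theorem card_inj [Finite X] {n : ℕ} (D E : Subgroup X) (t : Fin n → X)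
    (hE : ∀ i, ∀ d ∈ D, t i * d ∈ E)
    (hne : ∀ i j, i ≠ j → (t j)⁻¹ * t i ∉ D) :
    n * Nat.card ↥D ≤ Nat.card ↥E := by
  have hinj : Function.Injective
      (fun p : Fin n × ↥D => (⟨t p.1 * p.2.1, hE p.1 p.2.1 p.2.2⟩ : ↥E)) := by
    rintro ⟨i, d⟩ ⟨j, d'⟩ h
    have h' : t i * d.1 = t j * d'.1 := congrArg Subtype.val h
    by_cases hij : i = j
    · subst hij
      have : d.1 = d'.1 := mul_left_cancel h'
      exact Prod.ext rfl (Subtype.ext this)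
    · exfalso
      apply hne i j hij
      have : (t j)⁻¹ * t i = d'.1 * d.1⁻¹ := by
        calc (t j)⁻¹ * t i = (t j)⁻¹ * (t i * d.1) * d.1⁻¹ := by group
          _ = (t j)⁻¹ * (t j * d'.1) * d.1⁻¹ := by rw [h']
          _ = d'.1 * d.1⁻¹ := by group
      rw [this]
      exact mul_mem d'.2 (inv_mem d.2)
  have h := Nat.card_le_card_of_injective _ hinj
  rwa [Nat.card_prod, Nat.card_fin] at h

theorem card_cov [Finite X] {m : ℕ} (A D : Subgroup X) (g : Fin m → X)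
    (h : ∀ b ∈ A, ∃ i, ∃ d ∈ D, b = g i * d) :
    Nat.card ↥A ≤ m * Nat.card ↥D := by
  have h' : ∀ b : ↥A, ∃ i : Fin m, ∃ d : ↥D, b.1 = g i * d.1 := by
    intro b
    obtain ⟨i, d, hd, hb⟩ := h b.1 b.2
    exact ⟨i, ⟨d, hd⟩, hb⟩
  choose fi fd hb using h'
  have hinj : Function.Injective (fun b : ↥A => (fi b, fd b)) := by
    intro b b' hbb
    simp only [Prod.mk.injEq] at hbb
    apply Subtype.ext
    rw [hb b, hb b', hbb.1, hbb.2]
  have h := Nat.card_le_card_of_injective _ hinj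
  rwa [Nat.card_prod, Nat.card_fin] at h

/-- fixed point of an elementary abelian 2-group on `U / W`. -/
theorem exists_fixed_mod [Finite X] (A U W : Subgroup X)
    (hA2 : ∀ b ∈ A, b * b = 1) (hAc : ∀ b ∈ A, ∀ b' ∈ A, b * b' = b' * b)
    (hU2 : ∀ u ∈ U, u * u = 1) (hUc : ∀ u ∈ U, ∀ u' ∈ U, u * u' = u' * u)
    (hAU : ∀ b ∈ A, ∀ u ∈ U, b * u * b⁻¹ ∈ U) (hAW : ∀ b ∈ A, ∀ w ∈ W, b * w * b⁻¹ ∈ W)
    (hWU : W ≤ U) (hne : ∃ u ∈ U, u ∉ W) :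
    ∃ u ∈ U, u ∉ W ∧ ∀ b ∈ A, b * u * b⁻¹ * u⁻¹ ∈ W := by
  classical
  obtain ⟨u1, hu1U, hu1W⟩ := hne
  haveI : Nonempty {u : X // u ∈ U ∧ u ∉ W} := ⟨⟨u1, hu1U, hu1W⟩⟩
  obtain ⟨⟨u0, hu0U, hu0W⟩, hmax⟩ := Finite.exists_max
    (fun u : {u : X // u ∈ U ∧ u ∉ W} => Set.ncard {b : X | b ∈ A ∧ b * u.1 * b⁻¹ * u.1⁻¹ ∈ W})
  refine ⟨u0, hu0U, hu0W, ?_⟩
  by_contra hcon
  push_neg at hcon
  obtain ⟨b0, hb0, hb0W⟩ := hcon
  set y := b0 * u0 * b0⁻¹ with hy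
  have hyU : y ∈ U := hAU b0 hb0 u0 hu0U
  set u' := y * u0⁻¹ with hu'
  have hu'eq : u' = b0 * u0 * b0⁻¹ * u0⁻¹ := by rw [hu', hy]
  have hu'U : u' ∈ U := mul_mem hyU (inv_mem hu0U)
  have hu'W : u' ∉ W := by rw [hu'eq]; exact hb0W
  have hlt : {b : X | b ∈ A ∧ b * u0 * b⁻¹ * u0⁻¹ ∈ W} ⊂
      {b : X | b ∈ A ∧ b * u' * b⁻¹ * u'⁻¹ ∈ W} := by
    rw [Set.ssubset_iff_of_subset]
    · refine ⟨b0, ⟨hb0, ?_⟩, fun h => hb0W h.2⟩
      have h1 : b0 * u' * b0⁻¹ = u'⁻¹ := by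
        calc b0 * u' * b0⁻¹ = (b0 * b0) * u0 * (b0 * b0)⁻¹ * (b0 * u0 * b0⁻¹)⁻¹ := by
              rw [hu'eq]; group
          _ = u0 * (b0 * u0 * b0⁻¹)⁻¹ := by rw [hA2 b0 hb0]; group
          _ = u'⁻¹ := by rw [hu'eq]; group
      rw [h1]
      have : u'⁻¹ * u'⁻¹ = 1 := by
        calc u'⁻¹ * u'⁻¹ = (u' * u')⁻¹ := by group
          _ = 1 := by rw [hU2 u' hu'U, inv_one]
      rw [this]
      exact one_mem _
    · rintro b ⟨hb, hbW⟩
      refine ⟨hb, ?_⟩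
      set w := b * u0 * b⁻¹ * u0⁻¹ with hw
      have hwU : w ∈ U := hWU hbW
      set w' := b0 * w * b0⁻¹ with hw'
      have hw'W : w' ∈ W := hAW b0 hb0 w hbW
      have hbb : b * b0 = b0 * b := hAc b hb b0 hb0
      have e1 : b * y * b⁻¹ = w' * y := by
        calc b * y * b⁻¹ = (b * b0) * u0 * (b * b0)⁻¹ := by rw [hy]; group
          _ = (b0 * b) * u0 * (b0 * b)⁻¹ := by rw [hbb]
          _ = w' * y := by rw [hw', hw, hy]; group
      have e2 : b * u0 * b⁻¹ = w * u0 := by rw [hw]; group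
      have e3 : b * u' * b⁻¹ * u'⁻¹ = w' * (u' * w⁻¹ * u'⁻¹) := by
        calc b * u' * b⁻¹ * u'⁻¹ = (b * y * b⁻¹) * (b * u0 * b⁻¹)⁻¹ * u'⁻¹ := by
              rw [hu']; group
          _ = (w' * y) * (w * u0)⁻¹ * u'⁻¹ := by rw [e1, e2]
          _ = w' * (u' * w⁻¹ * u'⁻¹) := by rw [hu']; group
      have e4 : u' * w⁻¹ = w⁻¹ * u' := hUc u' hu'U w⁻¹ (inv_mem hwU)
      have e5 : u' * w⁻¹ * u'⁻¹ = w⁻¹ := by rw [e4]; group
      rw [e3, e5]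
      exact mul_mem hw'W (inv_mem hbW)
  have hcard := Set.ncard_lt_ncard hlt (Set.toFinite _)
  have := hmax ⟨u', hu'U, hu'W⟩
  simp only at this
  omega

theorem tri {K Q : Subgroup X} [Q.Normal] (h3 : (K ⊓ Q).relIndex K = 3) {x : X} (hx : x ∈ K)
    (hxQ : x ∉ Q) :
    x * x * x ∈ Q ∧ ∀ k ∈ K, k ∈ Q ∨ x⁻¹ * k ∈ Q ∨ x⁻¹ * x⁻¹ * k ∈ Q := by
  have h3' : (Q.subgroupOf K).index = 3 := by
    rw [Subgroup.inf_relIndex_left] at h3
    exact h3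
  have hcard : Nat.card (↥K ⧸ Q.subgroupOf K) = 3 := by
    rw [← Subgroup.index_eq_card]; exact h3'
  set xb : ↥K ⧸ Q.subgroupOf K := QuotientGroup.mk ⟨x, hx⟩ with hxb
  have hxb1 : xb ≠ 1 := by
    intro h
    rw [hxb, QuotientGroup.eq_one_iff] at h
    exact hxQ (Subgroup.mem_subgroupOf.mp h)
  haveI : Fact (Nat.Prime 3) := ⟨by norm_num⟩
  have htop : Subgroup.zpowers xb = ⊤ := zpowers_eq_top_of_prime_card hcard hxb1
  have hx3b : xb ^ 3 = 1 := by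
    have := pow_card_eq_one' (G := ↥K ⧸ Q.subgroupOf K) (x := xb)
    rwa [hcard] at this
  constructor
  · have h1 : ((⟨x, hx⟩ : ↥K) ^ 3 : ↥K) ∈ Q.subgroupOf K := by
      rw [← QuotientGroup.eq_one_iff, QuotientGroup.mk_pow]
      exact hx3b
    have h2 := Subgroup.mem_subgroupOf.mp h1
    have h3 : ((((⟨x, hx⟩ : ↥K) ^ 3 : ↥K)) : X) = x * x * x := by
      simp [pow_succ]
    rwa [h3] at h2
  · intro k hk
    have hkb : (QuotientGroup.mk ⟨k, hk⟩ : ↥K ⧸ Q.subgroupOf K) ∈ Subgroup.zpowers xb := by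
      rw [htop]; exact Subgroup.mem_top _
    obtain ⟨n, hn⟩ := Subgroup.mem_zpowers_iff.mp hkb
    have hmod : xb ^ n = xb ^ (n % 3) := by
      conv_lhs => rw [← Int.emod_add_mul_ediv n 3]
      rw [zpow_add, zpow_mul]
      have : xb ^ (3 : ℤ) = 1 := by exact_mod_cast hx3b
      rw [this, one_zpow, mul_one]
    rw [hmod] at hn
    have h0 := Int.emod_nonneg n (by norm_num : (3 : ℤ) ≠ 0)
    have h1 := Int.emod_lt_of_pos n (by norm_num : (0 : ℤ) < 3)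
    obtain hr | hr | hr : n % 3 = 0 ∨ n % 3 = 1 ∨ n % 3 = 2 := by omega
    · left
      rw [hr, zpow_zero] at hn
      have := (QuotientGroup.eq_one_iff _).mp hn.symm
      exact Subgroup.mem_subgroupOf.mp this
    · right; left
      rw [hr, zpow_one, hxb] at hn
      have := QuotientGroup.eq.mp hn
      have h2 := Subgroup.mem_subgroupOf.mp this
      simpa using h2
    · right; right
      have h22 : xb ^ (2 : ℤ) = QuotientGroup.mk ((⟨x, hx⟩ : ↥K) * ⟨x, hx⟩) := by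
        rw [hxb]
        norm_cast
        rw [pow_two]
        rfl
      rw [hr, h22] at hn
      have := QuotientGroup.eq.mp hn
      have h2 := Subgroup.mem_subgroupOf.mp this
      have h3 : x⁻¹ * x⁻¹ * k = (x * x)⁻¹ * k := by group
      rw [h3]
      simpa using h2

theorem kact (Y K Q : Subgroup X) (x : X) (hx : x ∈ K)
    (htri : ∀ k ∈ K, k ∈ Q ∨ x⁻¹ * k ∈ Q ∨ x⁻¹ * x⁻¹ * k ∈ Q)
    (hc : ∀ z ∈ Y, ∀ p ∈ K ⊓ Q, p * z = z * p) :
    ∀ k ∈ K, ∀ z ∈ Y, k * z * k⁻¹ = z ∨ k * z * k⁻¹ = x * z * x⁻¹ ∨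
      k * z * k⁻¹ = x * (x * z * x⁻¹) * x⁻¹ := by
  intro k hk z hz
  rcases htri k hk with h | h | h
  · left
    have := hc z hz k (Subgroup.mem_inf.mpr ⟨hk, h⟩)
    rw [this]; group
  · right; left
    have := hc z hz _ (Subgroup.mem_inf.mpr ⟨mul_mem (inv_mem hx) hk, h⟩)
    calc k * z * k⁻¹ = x * ((x⁻¹ * k) * z) * (x⁻¹ * k)⁻¹ * x⁻¹ := by group
      _ = x * (z * (x⁻¹ * k)) * (x⁻¹ * k)⁻¹ * x⁻¹ := by rw [this]
      _ = x * z * x⁻¹ := by group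
  · right; right
    have := hc z hz _ (Subgroup.mem_inf.mpr
      ⟨mul_mem (mul_mem (inv_mem hx) (inv_mem hx)) hk, h⟩)
    calc k * z * k⁻¹
        = x * x * ((x⁻¹ * x⁻¹ * k) * z) * (x⁻¹ * x⁻¹ * k)⁻¹ * x⁻¹ * x⁻¹ := by group
      _ = x * x * (z * (x⁻¹ * x⁻¹ * k)) * (x⁻¹ * x⁻¹ * k)⁻¹ * x⁻¹ * x⁻¹ := by rw [this]
      _ = x * (x * z * x⁻¹) * x⁻¹ := by group

theorem phi3 (Y K Q : Subgroup X) (x : X) (hx3 : x * x * x ∈ K ⊓ Q)
    (hc : ∀ z ∈ Y, ∀ p ∈ K ⊓ Q, p * z = z * p) :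
    ∀ z ∈ Y, x * (x * (x * z * x⁻¹) * x⁻¹) * x⁻¹ = z := by
  intro z hz
  have h1 := hc z hz _ hx3
  calc x * (x * (x * z * x⁻¹) * x⁻¹) * x⁻¹ = (x * x * x * z) * (x * x * x)⁻¹ := by group
    _ = (z * (x * x * x)) * (x * x * x)⁻¹ := by rw [h1]
    _ = z := by group

theorem comm_conj (H K : Subgroup X) (g : X) (hH : ∀ z ∈ H, g * z * g⁻¹ ∈ H)
    (hK : ∀ k ∈ K, g * k * g⁻¹ ∈ K) : ∀ u ∈ ⁅H, K⁆, g * u * g⁻¹ ∈ ⁅H, K⁆ := by
  intro u hu
  have hle : ⁅H, K⁆ ≤ (⁅H, K⁆).comap (MulAut.conj g).toMonoidHom := by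
    rw [Subgroup.commutator_le]
    intro z hz k hk
    rw [Subgroup.mem_comap]
    have : (MulAut.conj g).toMonoidHom ⁅z, k⁆ = ⁅g * z * g⁻¹, g * k * g⁻¹⁆ := by
      simp only [MulEquiv.coe_toMonoidHom, MulAut.conj_apply, commutatorElement_def]
      group
    rw [this]
    exact Subgroup.commutator_mem_commutator (hH z hz) (hK k hk)
  have := hle hu
  rw [Subgroup.mem_comap] at this
  simpa [MulAut.conj_apply] using this

theorem normOne (Y K : Subgroup X) (x : X) (hx : x ∈ K)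
    (hY2 : ∀ z ∈ Y, z * z = 1) (hYc : ∀ z ∈ Y, ∀ z' ∈ Y, z * z' = z' * z)
    (hYK : ∀ k ∈ K, ∀ z ∈ Y, k * z * k⁻¹ ∈ Y)
    (hKact : ∀ k ∈ K, ∀ z ∈ Y, k * z * k⁻¹ = z ∨ k * z * k⁻¹ = x * z * x⁻¹ ∨
      k * z * k⁻¹ = x * (x * z * x⁻¹) * x⁻¹)
    (hφ3 : ∀ z ∈ Y, x * (x * (x * z * x⁻¹) * x⁻¹) * x⁻¹ = z) :
    ∀ u ∈ ⁅Y, K⁆, u ∈ Y ∧ u * (x * u * x⁻¹) * (x * (x * u * x⁻¹) * x⁻¹) = 1 := by
  have hYinv : ∀ z ∈ Y, z⁻¹ = z := fun z hz => inv_eq_of_mul_eq_one_left (hY2 z hz)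
  intro u hu
  rw [Subgroup.commutator_def] at hu
  induction hu using Subgroup.closure_induction with
  | mem g hg =>
    obtain ⟨z, hz, k, hk, rfl⟩ := hg
    have hkz : k * z * k⁻¹ ∈ Y := hYK k hk z hz
    have e : ⁅z, k⁆ = z * (k * z * k⁻¹) := by
      rw [commutatorElement_def]
      have : k * z⁻¹ * k⁻¹ = k * z * k⁻¹ := by rw [hYinv z hz]
      calc z * k * z⁻¹ * k⁻¹ = z * (k * z⁻¹ * k⁻¹) := by group
        _ = z * (k * z * k⁻¹) := by rw [this]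
    rw [e]
    refine ⟨mul_mem hz hkz, ?_⟩
    have hφz : x * z * x⁻¹ ∈ Y := hYK x hx z hz
    have hφφz : x * (x * z * x⁻¹) * x⁻¹ ∈ Y := hYK x hx _ hφz
    have h3 := hφ3 z hz
    rcases hKact k hk z hz with h | h | h
    · rw [h, hY2 z hz]; group
    · rw [h]
      calc z * (x * z * x⁻¹) * (x * (z * (x * z * x⁻¹)) * x⁻¹) *
            (x * (x * (z * (x * z * x⁻¹)) * x⁻¹) * x⁻¹)
          = z * ((x * z * x⁻¹) * (x * z * x⁻¹)) *
            ((x * (x * z * x⁻¹) * x⁻¹) * (x * (x * z * x⁻¹) * x⁻¹)) *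
            (x * (x * (x * z * x⁻¹) * x⁻¹) * x⁻¹) := by group
        _ = z * z := by rw [hY2 _ hφz, hY2 _ hφφz, h3, mul_one, mul_one]
        _ = 1 := hY2 z hz
    · rw [h]
      have hm : z * (x * (x * z * x⁻¹) * x⁻¹) * (x * z * x⁻¹) ∈ Y :=
        mul_mem (mul_mem hz hφφz) hφz
      have e1 : x * (z * (x * (x * z * x⁻¹) * x⁻¹)) * x⁻¹ =
          (x * z * x⁻¹) * (x * (x * (x * z * x⁻¹) * x⁻¹) * x⁻¹) := by
        simp [mul_assoc]
      have e2 : x * (x * (z * (x * (x * z * x⁻¹) * x⁻¹)) * x⁻¹) * x⁻¹ =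
          (x * (x * z * x⁻¹) * x⁻¹) * (x * (x * (x * (x * z * x⁻¹) * x⁻¹) * x⁻¹) * x⁻¹) := by
        simp [mul_assoc]
      rw [e2, e1, h3]
      calc z * (x * (x * z * x⁻¹) * x⁻¹) * ((x * z * x⁻¹) * z) *
            ((x * (x * z * x⁻¹) * x⁻¹) * (x * z * x⁻¹))
          = (z * (x * (x * z * x⁻¹) * x⁻¹) * (x * z * x⁻¹)) *
            (z * (x * (x * z * x⁻¹) * x⁻¹) * (x * z * x⁻¹)) := by
            simp [mul_assoc]
        _ = 1 := hY2 _ hm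
  | one => exact ⟨one_mem _, by group⟩
  | mul a b _ _ ha hb =>
    refine ⟨mul_mem ha.1 hb.1, ?_⟩
    have hφa : x * a * x⁻¹ ∈ Y := hYK x hx a ha.1
    have hφφa : x * (x * a * x⁻¹) * x⁻¹ ∈ Y := hYK x hx _ hφa
    have hφb : x * b * x⁻¹ ∈ Y := hYK x hx b hb.1
    calc a * b * (x * (a * b) * x⁻¹) * (x * (x * (a * b) * x⁻¹) * x⁻¹)
        = a * (b * (x * a * x⁻¹)) * ((x * b * x⁻¹) * (x * (x * a * x⁻¹) * x⁻¹)) *
          (x * (x * b * x⁻¹) * x⁻¹) := by group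
      _ = a * ((x * a * x⁻¹) * b) * ((x * (x * a * x⁻¹) * x⁻¹) * (x * b * x⁻¹)) *
          (x * (x * b * x⁻¹) * x⁻¹) := by
          rw [hYc b hb.1 _ hφa, hYc _ hφb _ hφφa]
      _ = a * (x * a * x⁻¹) * (b * (x * (x * a * x⁻¹) * x⁻¹)) * (x * b * x⁻¹) *
          (x * (x * b * x⁻¹) * x⁻¹) := by group
      _ = a * (x * a * x⁻¹) * ((x * (x * a * x⁻¹) * x⁻¹) * b) * (x * b * x⁻¹) *
          (x * (x * b * x⁻¹) * x⁻¹) := by rw [hYc b hb.1 _ hφφa]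
      _ = (a * (x * a * x⁻¹) * (x * (x * a * x⁻¹) * x⁻¹)) *
          (b * (x * b * x⁻¹) * (x * (x * b * x⁻¹) * x⁻¹)) := by group
      _ = 1 := by rw [ha.2, hb.2, one_mul]
  | inv a _ ha =>
    rw [hYinv a ha.1]
    exact ha

theorem card_inj2 [Finite X] (D E : Subgroup X) (t : X) (hDE : D ≤ E)
    (htE : t ∈ E) (ht : t ∉ D) : 2 * Nat.card ↥D ≤ Nat.card ↥E := by
  apply card_inj D E ![1, t]
  · intro i d hd
    fin_cases i
    · simpa using hDE hd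
    · simpa using mul_mem htE (hDE hd)
  · intro i j hij hmem
    fin_cases i <;> fin_cases j <;> simp at hij hmem
    · exact ht hmem
    · exact ht hmem

theorem card_inj3 [Finite X] (D E : Subgroup X) (t₁ t₂ : X) (hDE : D ≤ E)
    (h1E : t₁ ∈ E) (h2E : t₂ ∈ E) (h1 : t₁ ∉ D) (h2 : t₂ ∉ D) (h12 : t₁⁻¹ * t₂ ∉ D) :
    3 * Nat.card ↥D ≤ Nat.card ↥E := by
  apply card_inj D E ![1, t₁, t₂]
  · intro i d hd
    fin_cases i
    · simpa using hDE hd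
    · simpa using mul_mem h1E (hDE hd)
    · simpa using mul_mem h2E (hDE hd)
  · intro i j hij hmem
    fin_cases i <;> fin_cases j <;> simp at hij hmem
    · exact h1 hmem
    · exact h2 hmem
    · exact h1 hmem
    · exact h12 (by simpa using inv_mem hmem)
    · exact h2 hmem
    · exact h12 hmem

theorem card_inj4 [Finite X] (D E : Subgroup X) (t₁ t₂ t₃ : X) (hDE : D ≤ E)
    (h1E : t₁ ∈ E) (h2E : t₂ ∈ E) (h3E : t₃ ∈ E) (h1 : t₁ ∉ D) (h2 : t₂ ∉ D) (h3 : t₃ ∉ D)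
    (h12 : t₁⁻¹ * t₂ ∉ D) (h13 : t₁⁻¹ * t₃ ∉ D) (h23 : t₂⁻¹ * t₃ ∉ D) :
    4 * Nat.card ↥D ≤ Nat.card ↥E := by
  apply card_inj D E ![1, t₁, t₂, t₃]
  · intro i d hd
    fin_cases i
    · simpa using hDE hd
    · simpa using mul_mem h1E (hDE hd)
    · simpa using mul_mem h2E (hDE hd)
    · simpa using mul_mem h3E (hDE hd)
  · intro i j hij hmem
    fin_cases i <;> fin_cases j <;> simp at hij hmem
    · exact h1 hmem
    · exact h2 hmem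
    · exact h3 hmem
    · exact h1 hmem
    · exact h12 (by simpa using inv_mem hmem)
    · exact h13 (by simpa using inv_mem hmem)
    · exact h2 hmem
    · exact h12 hmem
    · exact h23 (by simpa using inv_mem hmem)
    · exact h3 hmem
    · exact h13 hmem
    · exact h23 hmem

theorem card_cov2 [Finite X] (A D : Subgroup X) (g₁ : X)
    (h : ∀ b ∈ A, b ∈ D ∨ ∃ d ∈ D, b = g₁ * d) : Nat.card ↥A ≤ 2 * Nat.card ↥D := by
  apply card_cov A D ![1, g₁]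
  intro b hb
  rcases h b hb with h | ⟨d, hd, h⟩
  · exact ⟨0, b, h, by simp⟩
  · exact ⟨1, d, hd, by simpa using h⟩

theorem card_cov4 [Finite X] (A D : Subgroup X) (g₁ g₂ g₃ : X)
    (h : ∀ b ∈ A, b ∈ D ∨ (∃ d ∈ D, b = g₁ * d) ∨ (∃ d ∈ D, b = g₂ * d) ∨
      (∃ d ∈ D, b = g₃ * d)) : Nat.card ↥A ≤ 4 * Nat.card ↥D := by
  apply card_cov A D ![1, g₁, g₂, g₃]
  intro b hb
  rcases h b hb with h | ⟨d, hd, h⟩ | ⟨d, hd, h⟩ | ⟨d, hd, h⟩
  · exact ⟨0, b, h, by simp⟩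
  · exact ⟨1, d, hd, by simpa using h⟩
  · exact ⟨2, d, hd, by simpa using h⟩
  · exact ⟨3, d, hd, by simpa using h⟩

/-- SX-W. -/
theorem w : Cfsg.Agent.H19.Sx.StW.{u} := by
  intro X _ _ V T Q J K A a x hVN hQN hV hVQ hQV _hcen _hT _hQT _hJT hAJ hA hmax hKJ hidx hQK hW4
    ha hx hxQ hax
  classical
  have hQn : ∀ q ∈ Q, ∀ g : X, g * q * g⁻¹ ∈ Q := fun q hq g => hQN.conj_mem q hq g
  have hVn : ∀ v ∈ V, ∀ g : X, g * v * g⁻¹ ∈ V := fun v hv g => hVN.conj_mem v hv g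
  have hA2 : ∀ b ∈ A, b * b = 1 := fun b hb => by
    have := hA.2 b hb
    rwa [pow_two] at this
  have hAc : ∀ b ∈ A, ∀ b' ∈ A, b * b' = b' * b := fun b hb b' hb' =>
    congrArg Subtype.val (hA.1.is_comm.comm ⟨b, hb⟩ ⟨b', hb'⟩)
  have hV2 : ∀ v ∈ V, v * v = 1 := fun v hv => by
    have := hV.2 v hv
    rwa [pow_two] at this
  have hVcomm : ∀ v ∈ V, ∀ v' ∈ V, v * v' = v' * v := fun v hv v' hv' =>
    congrArg Subtype.val (hV.1.is_comm.comm ⟨v, hv⟩ ⟨v', hv'⟩)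
  have hJK : ∀ j ∈ J, ∀ k ∈ K, j * k * j⁻¹ ∈ K := by
    intro j hj k hk
    have h1 : ⁅k⁻¹, j⁆ ∈ ⁅K, J⁆ := Subgroup.commutator_mem_commutator (inv_mem hk) hj
    rw [hKJ] at h1
    have h2 : j * k * j⁻¹ = k * ⁅k⁻¹, j⁆ := by
      rw [commutatorElement_def]; group
    rw [h2]; exact mul_mem hk h1
  have hAK : ∀ b ∈ A, ∀ k ∈ K, b * k * b⁻¹ ∈ K := fun b hb => hJK b (hAJ hb)
  have hAK' : ∀ b ∈ A, ∀ k ∈ K, b⁻¹ * k * b ∈ K := fun b hb k hk => by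
    have := hAK b⁻¹ (inv_mem hb) k hk
    simpa using this
  have hQK' : ∀ q ∈ Q, ∀ k ∈ K, q * k * q⁻¹ ∈ K := fun q hq k hk =>
    (Subgroup.mem_normalizer_iff.mp (hQK hq) k).mp hk
  have hxK : ∀ k ∈ K, x * k * x⁻¹ ∈ K := fun k hk => mul_mem (mul_mem hx hk) (inv_mem hx)
  obtain ⟨hx3, htri⟩ := tri hidx hx hxQ
  have hx3P : x * x * x ∈ K ⊓ Q := Subgroup.mem_inf.mpr ⟨mul_mem (mul_mem hx hx) hx, hx3⟩
  -- V-side
  have hVc : ∀ v ∈ V, ∀ p ∈ K ⊓ Q, p * v = v * p := fun v hv p hp =>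
    ((Subgroup.mem_centralizer_iff.mp (hQV (Subgroup.mem_inf.mp hp).2)) v hv).symm
  have hWN := normOne V K x hx hV2 hVcomm (fun k _ v hv => hVn v hv k)
    (kact V K Q x hx htri hVc) (phi3 V K Q x hx3P hVc)
  -- Z-side
  have hZP : ∀ z ∈ omegaCenterOf (K ⊓ Q), z ∈ K ⊓ Q := fun z hz => (memZ _ hz).1
  have hZc : ∀ z ∈ omegaCenterOf (K ⊓ Q), ∀ p ∈ K ⊓ Q, p * z = z * p :=
    fun z hz => (memZ _ hz).2.1
  have hZ2 : ∀ z ∈ omegaCenterOf (K ⊓ Q), z * z = 1 := fun z hz => (memZ _ hz).2.2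
  have hZcomm : ∀ z ∈ omegaCenterOf (K ⊓ Q), ∀ z' ∈ omegaCenterOf (K ⊓ Q),
      z * z' = z' * z := fun z hz z' hz' => hZc z' hz' z (hZP z hz)
  have hZof : ∀ z : X, z ∈ K ⊓ Q → (∀ p ∈ K ⊓ Q, p * z = z * p) → z * z = 1 →
      z ∈ omegaCenterOf (K ⊓ Q) := fun z h1 h2 h3 => Z_of _ h1 h2 h3
  set Z := omegaCenterOf (K ⊓ Q) with hZdef
  have hZinv : ∀ z ∈ Z, z⁻¹ = z := fun z hz => inv_eq_of_mul_eq_one_left (hZ2 z hz)
  have hPn : ∀ g : X, (∀ k ∈ K, g * k * g⁻¹ ∈ K) → ∀ p ∈ K ⊓ Q, g * p * g⁻¹ ∈ K ⊓ Q := by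
    intro g hg p hp
    exact Subgroup.mem_inf.mpr
      ⟨hg p (Subgroup.mem_inf.mp hp).1, hQn p (Subgroup.mem_inf.mp hp).2 g⟩
  have hZn : ∀ g : X, (∀ k ∈ K, g * k * g⁻¹ ∈ K) → (∀ k ∈ K, g⁻¹ * k * g ∈ K) →
      ∀ z ∈ Z, g * z * g⁻¹ ∈ Z := by
    intro g hg hg' z hz
    refine hZof _ (hPn g hg z (hZP z hz)) (fun p hp => ?_) ?_
    · have hp' : g⁻¹ * p * g ∈ K ⊓ Q := by
        have := hPn g⁻¹ (fun k hk => by simpa using hg' k hk) p hp
        simpa using this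
      have h1 := hZc z hz _ hp'
      calc p * (g * z * g⁻¹) = g * ((g⁻¹ * p * g) * z) * g⁻¹ := by group
        _ = g * (z * (g⁻¹ * p * g)) * g⁻¹ := by rw [h1]
        _ = g * z * g⁻¹ * p := by group
    · calc g * z * g⁻¹ * (g * z * g⁻¹) = g * (z * z) * g⁻¹ := by group
        _ = 1 := by rw [hZ2 z hz]; group
  have hZK : ∀ k ∈ K, ∀ z ∈ Z, k * z * k⁻¹ ∈ Z := fun k hk =>
    hZn k (fun k' hk' => mul_mem (mul_mem hk hk') (inv_mem hk))
      (fun k' hk' => mul_mem (mul_mem (inv_mem hk) hk') hk)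
  have hZA : ∀ b ∈ A, ∀ z ∈ Z, b * z * b⁻¹ ∈ Z := fun b hb => hZn b (hAK b hb) (hAK' b hb)
  have hφ3 := phi3 Z K Q x hx3P hZc
  have hUZN := normOne Z K x hx hZ2 hZcomm hZK (kact Z K Q x hx htri hZc) hφ3
  have hUx : ∀ u ∈ ⁅Z, K⁆, x * u * x⁻¹ ∈ ⁅Z, K⁆ := comm_conj Z K x (hZK x hx) hxK
  have hUA : ∀ b ∈ A, ∀ u ∈ ⁅Z, K⁆, b * u * b⁻¹ ∈ ⁅Z, K⁆ := fun b hb =>
    comm_conj Z K b (hZA b hb) (hAK b hb)
  have hWx : ∀ w ∈ ⁅V, K⁆, x * w * x⁻¹ ∈ ⁅V, K⁆ :=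
    comm_conj V K x (fun v hv => hVn v hv x) hxK
  have hWA : ∀ b ∈ A, ∀ w ∈ ⁅V, K⁆, b * w * b⁻¹ ∈ ⁅V, K⁆ := fun b hb =>
    comm_conj V K b (fun v hv => hVn v hv b) (hAK b hb)
  have hWK : ⁅V, K⁆ ≤ K := by
    rw [Subgroup.commutator_le]
    intro v hv k hk
    rw [commutatorElement_def]
    exact mul_mem (hQK' v (hVQ hv) k hk) (inv_mem hk)
  set U := ⁅Z, K⁆ with hUdef
  set W := ⁅V, K⁆ with hWdef
  have hUZ : ∀ u ∈ U, u ∈ Z := fun u hu => (hUZN u hu).1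
  have hU2 : ∀ u ∈ U, u * u = 1 := fun u hu => hZ2 u (hUZ u hu)
  have hUc : ∀ u ∈ U, ∀ u' ∈ U, u * u' = u' * u := fun u hu u' hu' =>
    hZcomm u (hUZ u hu) u' (hUZ u' hu')
  have hF1 : ∀ u ∈ U, x * (x * u * x⁻¹) * x⁻¹ = u * (x * u * x⁻¹) := by
    intro u hu
    have h := (hUZN u hu).2
    have hz : u * (x * u * x⁻¹) ∈ Z := mul_mem (hUZ u hu) (hZK x hx u (hUZ u hu))
    calc x * (x * u * x⁻¹) * x⁻¹
        = (u * (x * u * x⁻¹))⁻¹ * (u * (x * u * x⁻¹) * (x * (x * u * x⁻¹) * x⁻¹)) := by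
          group
      _ = (u * (x * u * x⁻¹))⁻¹ := by rw [h, mul_one]
      _ = u * (x * u * x⁻¹) := hZinv _ hz
  have hF2 : ∀ u ∈ U, x * u * x⁻¹ = u → u = 1 := by
    intro u hu h
    have hN := (hUZN u hu).2
    rw [h, h, hU2 u hu, one_mul] at hN
    exact hN
  have hφinv : ∀ z ∈ Z, x⁻¹ * z * x = x * (x * z * x⁻¹) * x⁻¹ := by
    intro z hz
    have h1 := hZc z hz _ hx3P
    calc x⁻¹ * z * x = x⁻¹ * (z * (x * x * x)) * x⁻¹ * x⁻¹ := by group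
      _ = x⁻¹ * (x * x * x * z) * x⁻¹ * x⁻¹ := by rw [h1]
      _ = x * (x * z * x⁻¹) * x⁻¹ := by group
  have hWZ : ∀ w ∈ W, w ∈ Z := fun w hw =>
    hZof _ (Subgroup.mem_inf.mpr ⟨hWK hw, hVQ (hWN w hw).1⟩)
      (fun p hp => hVc w (hWN w hw).1 p hp) (hV2 w (hWN w hw).1)
  have hWU : W ≤ U := by
    intro w hw
    have hN := (hWN w hw).2
    have hwZ := hWZ w hw
    have hφw : x * w * x⁻¹ ∈ Z := hZK x hx w hwZ
    have h1 : ⁅x * w * x⁻¹, x⁆ ∈ U := Subgroup.commutator_mem_commutator hφw hx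
    have h2 : ⁅x * w * x⁻¹, x⁆ = w := by
      rw [commutatorElement_def, hZinv _ hφw]
      calc x * w * x⁻¹ * x * (x * w * x⁻¹) * x⁻¹
          = w⁻¹ * (w * (x * w * x⁻¹) * (x * (x * w * x⁻¹) * x⁻¹)) := by group
        _ = w⁻¹ := by rw [hN, mul_one]
        _ = w := hZinv w hwZ
    rw [← h2]; exact h1
  have hW4' : (W : Set X).ncard = 4 := by
    rw [← Nat.card_coe_set_eq]; exact hW4
  have hnofix2 : ∀ w ∈ W, x * (x * w * x⁻¹) * x⁻¹ = w → w = 1 := by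
    intro w hw h
    have h3 := hφ3 w (hWZ w hw)
    rw [h] at h3
    exact hF2 w (hWU hw) h3
  have hconj1 : ∀ g y : X, g * y * g⁻¹ = 1 → y = 1 := by
    intro g y h
    calc y = g⁻¹ * (g * y * g⁻¹) * g := by group
      _ = 1 := by rw [h]; group
  have hL8 : ∀ w ∈ W, w ≠ 1 → ∀ y ∈ W,
      y = 1 ∨ y = w ∨ y = x * w * x⁻¹ ∨ y = x * (x * w * x⁻¹) * x⁻¹ := by
    intro w hw hw1 y hy
    have d1 : x * w * x⁻¹ ≠ w := fun h => hw1 (hF2 w (hWU hw) h)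
    have d2 : x * w * x⁻¹ ≠ 1 := fun h => hw1 (hconj1 x w h)
    have d3 : x * (x * w * x⁻¹) * x⁻¹ ≠ 1 := fun h => d2 (hconj1 x _ h)
    have d4 : x * (x * w * x⁻¹) * x⁻¹ ≠ x * w * x⁻¹ := fun h =>
      d2 (hF2 _ (hWU (hWx w hw)) h)
    have d5 : x * (x * w * x⁻¹) * x⁻¹ ≠ w := fun h => hw1 (hnofix2 w hw h)
    have hsub : ({1, w, x * w * x⁻¹, x * (x * w * x⁻¹) * x⁻¹} : Set X) ⊆ (W : Set X) := by
      intro g hg
      simp only [Set.mem_insert_iff, Set.mem_singleton_iff] at hg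
      rcases hg with h | h | h | h
      · rw [h]; exact one_mem _
      · rw [h]; exact hw
      · rw [h]; exact hWx w hw
      · rw [h]; exact hWx _ (hWx w hw)
    have h1 : (1 : X) ∉ ({w, x * w * x⁻¹, x * (x * w * x⁻¹) * x⁻¹} : Set X) := by
      simp only [Set.mem_insert_iff, Set.mem_singleton_iff, not_or]
      exact ⟨fun h => hw1 h.symm, fun h => d2 h.symm, fun h => d3 h.symm⟩
    have h2 : w ∉ ({x * w * x⁻¹, x * (x * w * x⁻¹) * x⁻¹} : Set X) := by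
      simp only [Set.mem_insert_iff, Set.mem_singleton_iff, not_or]
      exact ⟨fun h => d1 h.symm, fun h => d5 h.symm⟩
    have hcard : ({1, w, x * w * x⁻¹, x * (x * w * x⁻¹) * x⁻¹} : Set X).ncard = 4 := by
      rw [Set.ncard_insert_of_notMem h1, Set.ncard_insert_of_notMem h2,
        Set.ncard_pair (fun h => d4 h.symm)]
    have heq := Set.eq_of_subset_of_ncard_le hsub (by rw [hcard, hW4']) (Set.toFinite _)
    have hy' : y ∈ ({1, w, x * w * x⁻¹, x * (x * w * x⁻¹) * x⁻¹} : Set X) := by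
      rw [heq]; exact hy
    simpa using hy'
  -- the action of `A`
  have hAφ : ∀ z ∈ Z, a * (x * z * x⁻¹) * a⁻¹ = x * (x * (a * z * a⁻¹) * x⁻¹) * x⁻¹ := by
    intro z hz
    have e := hφinv _ (hZA a ha z hz)
    calc a * (x * z * x⁻¹) * a⁻¹ = (a * x * a⁻¹) * (a * z * a⁻¹) * (a * x * a⁻¹)⁻¹ := by
          group
      _ = x⁻¹ * (a * z * a⁻¹) * x := by rw [hax]; group
      _ = x * (x * (a * z * a⁻¹) * x⁻¹) * x⁻¹ := e
  have hBφ : ∀ b ∈ A, b * x * b⁻¹ * x⁻¹ ∈ Q → ∀ z ∈ Z,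
      b * (x * z * x⁻¹) * b⁻¹ = x * (b * z * b⁻¹) * x⁻¹ := by
    intro b hb hbQ z hz
    have hp : b * x * b⁻¹ * x⁻¹ ∈ K ⊓ Q :=
      Subgroup.mem_inf.mpr ⟨mul_mem (hAK b hb x hx) (inv_mem hx), hbQ⟩
    have hz' : x * (b * z * b⁻¹) * x⁻¹ ∈ Z := hZK x hx _ (hZA b hb z hz)
    have e := hZc _ hz' _ hp
    calc b * (x * z * x⁻¹) * b⁻¹
        = (b * x * b⁻¹ * x⁻¹) * (x * (b * z * b⁻¹) * x⁻¹) * (b * x * b⁻¹ * x⁻¹)⁻¹ := by
          group
      _ = (x * (b * z * b⁻¹) * x⁻¹) * (b * x * b⁻¹ * x⁻¹) * (b * x * b⁻¹ * x⁻¹)⁻¹ := by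
          rw [e]
      _ = x * (b * z * b⁻¹) * x⁻¹ := by group
  have hBdich : ∀ b ∈ A, b * x * b⁻¹ * x⁻¹ ∈ Q ∨ (a * b) * x * (a * b)⁻¹ * x⁻¹ ∈ Q := by
    intro b hb
    have hk : b * x * b⁻¹ ∈ K := hAK b hb x hx
    rcases htri _ hk with h | h | h
    · exfalso; apply hxQ
      have := hQn _ h b⁻¹
      have e : b⁻¹ * (b * x * b⁻¹) * b⁻¹⁻¹ = x := by group
      rwa [e] at this
    · left
      have := hQn _ h x
      have e : x * (x⁻¹ * (b * x * b⁻¹)) * x⁻¹ = b * x * b⁻¹ * x⁻¹ := by group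
      rwa [e] at this
    · right
      have h1 := hQn _ h a
      have h2 := hQn _ h1 x
      have h3 : (x * x * x)⁻¹ * (x * (a * (x⁻¹ * x⁻¹ * (b * x * b⁻¹)) * a⁻¹) * x⁻¹) ∈ Q :=
        mul_mem (inv_mem hx3) h2
      have h5 : a = x⁻¹ * a * x⁻¹ := by
        calc a = (a * x * a⁻¹) * a * x⁻¹ := by group
          _ = x⁻¹ * a * x⁻¹ := by rw [hax]
      have ha2 : a = x⁻¹ * x⁻¹ * a * x⁻¹ * x⁻¹ := by
        calc a = x⁻¹ * a * x⁻¹ := h5
          _ = x⁻¹ * (x⁻¹ * a * x⁻¹) * x⁻¹ := congrArg (fun t => x⁻¹ * t * x⁻¹) h5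
          _ = x⁻¹ * x⁻¹ * a * x⁻¹ * x⁻¹ := by group
      have e : (a * b) * x * (a * b)⁻¹ * x⁻¹ =
          (x * x * x)⁻¹ * (x * (a * (x⁻¹ * x⁻¹ * (b * x * b⁻¹)) * a⁻¹) * x⁻¹) := by
        calc (a * b) * x * (a * b)⁻¹ * x⁻¹ = a * (b * x * b⁻¹) * a⁻¹ * x⁻¹ := by group
          _ = (x⁻¹ * x⁻¹ * a * x⁻¹ * x⁻¹) * (b * x * b⁻¹) * a⁻¹ * x⁻¹ := by rw [← ha2]
          _ = (x * x * x)⁻¹ * (x * (a * (x⁻¹ * x⁻¹ * (b * x * b⁻¹)) * a⁻¹) * x⁻¹) := by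
              simp [mul_assoc]
      rw [e]; exact h3
  have hBW : ∀ b ∈ A, b * x * b⁻¹ * x⁻¹ ∈ Q → ∀ w ∈ W, b * w * b⁻¹ = w := by
    intro b hb hbQ w hw
    by_cases hw1 : w = 1
    · rw [hw1]; group
    · have hbw : b * w * b⁻¹ ∈ W := hWA b hb w hw
      have hcomm := hBφ b hb hbQ
      have hbb : b * (b * w * b⁻¹) * b⁻¹ = w := by
        calc b * (b * w * b⁻¹) * b⁻¹ = (b * b) * w * (b * b)⁻¹ := by group
          _ = w := by rw [hA2 b hb]; group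
      rcases hL8 w hw hw1 _ hbw with h | h | h | h
      · exact absurd (hconj1 b w h) hw1
      · exact h
      · exfalso
        have e1 : b * (x * w * x⁻¹) * b⁻¹ = x * (b * w * b⁻¹) * x⁻¹ := hcomm w (hWZ w hw)
        rw [h] at hbb e1
        have e2 : x * (x * w * x⁻¹) * x⁻¹ = w := by rw [← e1]; exact hbb
        exact hw1 (hnofix2 w hw e2)
      · exfalso
        have e1 : b * (x * w * x⁻¹) * b⁻¹ = x * (b * w * b⁻¹) * x⁻¹ := hcomm w (hWZ w hw)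
        have e1' : b * (x * (x * w * x⁻¹) * x⁻¹) * b⁻¹ =
            x * (b * (x * w * x⁻¹) * b⁻¹) * x⁻¹ := hcomm _ (hZK x hx w (hWZ w hw))
        rw [e1, h] at e1'
        rw [h] at hbb
        have h3 := hφ3 w (hWZ w hw)
        rw [h3] at e1'
        have e2 : x * w * x⁻¹ = w := by rw [← e1']; exact hbb
        exact hw1 (hF2 w (hWU hw) e2)
  obtain ⟨w1, hw1W, hw1a⟩ : ∃ w1 ∈ W, a * w1 * a⁻¹ ≠ w1 := by
    obtain ⟨w, hw, hw1⟩ : ∃ w ∈ W, w ≠ 1 := by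
      by_contra hcon
      push_neg at hcon
      have hsub : (W : Set X) ⊆ {1} := fun w hw => hcon w hw
      have := Set.ncard_le_ncard hsub (Set.toFinite _)
      rw [hW4', Set.ncard_singleton] at this
      omega
    by_cases h : a * w * a⁻¹ = w
    · refine ⟨x * w * x⁻¹, hWx w hw, ?_⟩
      intro h2
      have e := hAφ w (hWZ w hw)
      rw [h, h2] at e
      have h3 := hF2 _ (hWU (hWx w hw)) e.symm
      exact hw1 (hconj1 x w h3)
    · exact ⟨w, hw, h⟩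
  have hH6 : ∀ c ∈ W, ∀ c' ∈ W, a * c * a⁻¹ = c → a * c' * a⁻¹ = c' → c ≠ 1 →
      c' = 1 ∨ c' = c := by
    intro c hc c' hc' hac hac' hc1
    rcases hL8 c hc hc1 c' hc' with h | h | h | h
    · left; exact h
    · right; exact h
    · exfalso
      have e := hAφ c (hWZ c hc)
      rw [hac, ← h, hac'] at e
      have hc'1 := hF2 c' (hWU hc') e.symm
      rw [hc'1] at h
      exact hc1 (hconj1 x c h.symm)
    · exfalso
      have e := hAφ c (hWZ c hc)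
      rw [hac] at e
      have e' := hAφ (x * c * x⁻¹) (hZK x hx c (hWZ c hc))
      rw [e, ← h, hac'] at e'
      have hc'1 := hnofix2 c' hc' e'.symm
      rw [hc'1] at h
      exact hc1 (hconj1 x c (hconj1 x _ h.symm))
  -- the counting
  by_contra hne4
  have hUW : ∃ u ∈ U, u ∉ W := by
    by_contra hcon
    push_neg at hcon
    apply hne4
    have : U = W := le_antisymm (fun u hu => hcon u hu) hWU
    rw [this]; exact hW4
  obtain ⟨u, huU, huW, hufix⟩ := exists_fixed_mod A U W hA2 hAc hU2 hUc hUA hWA hWU hUW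
  have huZ := hUZ u huU
  have hφuU : x * u * x⁻¹ ∈ U := hUx u huU
  have hφuZ : x * u * x⁻¹ ∈ Z := hUZ _ hφuU
  have hZconj : ∀ z ∈ Z, ∀ z' ∈ Z, z * z' * z⁻¹ = z' := by
    intro z hz z' hz'
    rw [hZcomm z hz z' hz']; group
  have hM1 : ∀ b ∈ A, b * x * b⁻¹ * x⁻¹ ∈ Q →
      a * (b * u * b⁻¹ * u⁻¹) * a⁻¹ = b * u * b⁻¹ * u⁻¹ := by
    intro b hb hbQ
    have hw : b * u * b⁻¹ * u⁻¹ ∈ W := hufix b hb
    have hwa : a * u * a⁻¹ * u⁻¹ ∈ W := hufix a ha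
    have hab : a * b = b * a := hAc a ha b hb
    have hbwa : b * (a * u * a⁻¹ * u⁻¹) * b⁻¹ = a * u * a⁻¹ * u⁻¹ := hBW b hb hbQ _ hwa
    have e1 : a * (b * u * b⁻¹) * a⁻¹ = b * (a * u * a⁻¹) * b⁻¹ := by
      calc a * (b * u * b⁻¹) * a⁻¹ = (a * b) * u * (a * b)⁻¹ := by group
        _ = (b * a) * u * (b * a)⁻¹ := by rw [hab]
        _ = b * (a * u * a⁻¹) * b⁻¹ := by group
    calc a * (b * u * b⁻¹ * u⁻¹) * a⁻¹
        = (a * (b * u * b⁻¹) * a⁻¹) * (a * u * a⁻¹)⁻¹ := by group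
      _ = (b * (a * u * a⁻¹) * b⁻¹) * (a * u * a⁻¹)⁻¹ := by rw [e1]
      _ = (b * (a * u * a⁻¹ * u⁻¹) * b⁻¹) * (b * u * b⁻¹ * u⁻¹) *
          (a * u * a⁻¹ * u⁻¹)⁻¹ := by group
      _ = (a * u * a⁻¹ * u⁻¹) * (b * u * b⁻¹ * u⁻¹) * (a * u * a⁻¹ * u⁻¹)⁻¹ := by
          rw [hbwa]
      _ = b * u * b⁻¹ * u⁻¹ := hZconj _ (hWZ _ hwa) _ (hWZ _ hw)
  -- the subgroup D
  have hDc : ∀ d ∈ A ⊓ Subgroup.centralizer ({u, x * u * x⁻¹, w1} : Set X),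
      d * u = u * d ∧ d * (x * u * x⁻¹) = (x * u * x⁻¹) * d ∧ d * w1 = w1 * d := by
    intro d hd
    have h := Subgroup.mem_centralizer_iff.mp (Subgroup.mem_inf.mp hd).2
    exact ⟨(h u (by simp)).symm, (h (x * u * x⁻¹) (by simp)).symm, (h w1 (by simp)).symm⟩
  have hDmem : ∀ b ∈ A, b * u * b⁻¹ = u → b * (x * u * x⁻¹) * b⁻¹ = x * u * x⁻¹ →
      b * w1 * b⁻¹ = w1 → b ∈ A ⊓ Subgroup.centralizer ({u, x * u * x⁻¹, w1} : Set X) := by
    intro b hb h1 h2 h3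
    refine Subgroup.mem_inf.mpr ⟨hb, Subgroup.mem_centralizer_iff.mpr ?_⟩
    intro g hg
    simp only [Set.mem_insert_iff, Set.mem_singleton_iff] at hg
    have key : ∀ y : X, b * y * b⁻¹ = y → y * b = b * y := by
      intro y hy
      calc y * b = (b * y * b⁻¹) * b := by rw [hy]
        _ = b * y := by group
    rcases hg with h | h | h
    · rw [h]; exact key _ h1
    · rw [h]; exact key _ h2
    · rw [h]; exact key _ h3
  set D := A ⊓ Subgroup.centralizer ({u, x * u * x⁻¹, w1} : Set X) with hDdef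
  have hDA : D ≤ A := inf_le_left
  have hM2 : ∀ b ∈ A, b * x * b⁻¹ * x⁻¹ ∈ Q → b * u * b⁻¹ * u⁻¹ = 1 → b ∈ D := by
    intro b hb hbQ h1
    have hbu : b * u * b⁻¹ = u := by
      calc b * u * b⁻¹ = (b * u * b⁻¹ * u⁻¹) * u := by group
        _ = u := by rw [h1, one_mul]
    refine hDmem b hb hbu ?_ (hBW b hb hbQ w1 hw1W)
    rw [hBφ b hb hbQ u huZ, hbu]
  have hEab : IsElementaryAbelian 2 (Subgroup.closure
      {g : X | g ∈ D ∨ (g ∈ Z ∧ ∀ d ∈ D, d * g = g * d)}) := by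
    apply elemAb_closure
    · rintro s (hs | ⟨hs, hs'⟩) t (ht | ⟨ht, ht'⟩)
      · exact hAc s (hDA hs) t (hDA ht)
      · exact ht' s hs
      · exact (hs' t ht).symm
      · exact hZcomm s hs t ht
    · rintro s (hs | ⟨hs, _⟩)
      · exact hA2 s (hDA hs)
      · exact hZ2 s hs
  have hEA := hmax _ hEab
  set E := Subgroup.closure {g : X | g ∈ D ∨ (g ∈ Z ∧ ∀ d ∈ D, d * g = g * d)} with hEdef
  have hDE : D ≤ E := fun d hd => Subgroup.subset_closure (Or.inl hd)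
  have hZE : ∀ g ∈ Z, (∀ d ∈ D, d * g = g * d) → g ∈ E := fun g hg h =>
    Subgroup.subset_closure (Or.inr ⟨hg, h⟩)
  have huE : u ∈ E := hZE u huZ (fun d hd => (hDc d hd).1)
  have hφuE : x * u * x⁻¹ ∈ E := hZE _ hφuZ (fun d hd => (hDc d hd).2.1)
  have hw1E : w1 ∈ E := hZE w1 (hWZ w1 hw1W) (fun d hd => (hDc d hd).2.2)
  have hDpos : 0 < Nat.card ↥D := Nat.card_pos
  have hDa : ∀ q ∈ D, a * q * a⁻¹ = q := by
    intro q hq
    rw [hAc a ha q (hDA hq)]; group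
  have hw1D : w1 ∉ D := fun h => hw1a (hDa w1 h)
  have hwa : a * u * a⁻¹ * u⁻¹ ∈ W := hufix a ha
  have hφφwaW : x * (x * (a * u * a⁻¹ * u⁻¹) * x⁻¹) * x⁻¹ ∈ W := hWx _ (hWx _ hwa)
  have haφu : a * (x * u * x⁻¹) * a⁻¹ =
      (x * (x * (a * u * a⁻¹ * u⁻¹) * x⁻¹) * x⁻¹) * (u * (x * u * x⁻¹)) := by
    rw [hAφ u huZ, ← hF1 u huU]
    simp [mul_assoc]
  by_cases hcase : ∀ b ∈ A, b * x * b⁻¹ * x⁻¹ ∈ Q → b * u * b⁻¹ * u⁻¹ = 1
  · -- Case I
    have hcov : Nat.card ↥A ≤ 2 * Nat.card ↥D := by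
      apply card_cov2 A D a
      intro b hb
      rcases hBdich b hb with h | h
      · left; exact hM2 b hb h (hcase b hb h)
      · right
        refine ⟨a * b, hM2 (a * b) (mul_mem ha hb) h (hcase _ (mul_mem ha hb) h), ?_⟩
        rw [← mul_assoc, hA2 a ha, one_mul]
    have hN1 : x * u * x⁻¹ ∉ D := by
      intro hmem
      have h := hDa _ hmem
      rw [haφu] at h
      apply huW
      have h' : (x * (x * (a * u * a⁻¹ * u⁻¹) * x⁻¹) * x⁻¹ * u) * (x * u * x⁻¹) =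
          1 * (x * u * x⁻¹) := by
        rw [one_mul, mul_assoc]; exact h
      have h'' := mul_right_cancel h'
      have : u = (x * (x * (a * u * a⁻¹ * u⁻¹) * x⁻¹) * x⁻¹)⁻¹ :=
        eq_inv_of_mul_eq_one_right h''
      rw [this]
      exact inv_mem hφφwaW
    have hN2 : x * u * x⁻¹ * w1 ∉ D := by
      intro hmem
      have h := hDa _ hmem
      have hw1' : a * w1 * a⁻¹ ∈ W := hWA a ha w1 hw1W
      have e1 : a * (x * u * x⁻¹ * w1) * a⁻¹ =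
          (a * (x * u * x⁻¹) * a⁻¹) * (a * w1 * a⁻¹) := by group
      rw [e1, haφu] at h
      have c1 : (x * u * x⁻¹) * (a * w1 * a⁻¹) = (a * w1 * a⁻¹) * (x * u * x⁻¹) :=
        hZcomm _ hφuZ _ (hWZ _ hw1')
      have c2 : (x * u * x⁻¹) * w1 = w1 * (x * u * x⁻¹) := hZcomm _ hφuZ _ (hWZ _ hw1W)
      have h' : (x * (x * (a * u * a⁻¹ * u⁻¹) * x⁻¹) * x⁻¹ * u * (a * w1 * a⁻¹)) *
          (x * u * x⁻¹) = w1 * (x * u * x⁻¹) := by
        calc (x * (x * (a * u * a⁻¹ * u⁻¹) * x⁻¹) * x⁻¹ * u * (a * w1 * a⁻¹)) * (x * u * x⁻¹)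
            = x * (x * (a * u * a⁻¹ * u⁻¹) * x⁻¹) * x⁻¹ * u *
              ((a * w1 * a⁻¹) * (x * u * x⁻¹)) := by simp [mul_assoc]
          _ = x * (x * (a * u * a⁻¹ * u⁻¹) * x⁻¹) * x⁻¹ * u *
              ((x * u * x⁻¹) * (a * w1 * a⁻¹)) := by rw [c1]
          _ = x * (x * (a * u * a⁻¹ * u⁻¹) * x⁻¹) * x⁻¹ * (u * (x * u * x⁻¹)) *
              (a * w1 * a⁻¹) := by simp [mul_assoc]
          _ = x * u * x⁻¹ * w1 := h
          _ = w1 * (x * u * x⁻¹) := c2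
      have h'' := mul_right_cancel h'
      apply huW
      have : u = (x * (x * (a * u * a⁻¹ * u⁻¹) * x⁻¹) * x⁻¹)⁻¹ * w1 * (a * w1 * a⁻¹)⁻¹ := by
        calc u = (x * (x * (a * u * a⁻¹ * u⁻¹) * x⁻¹) * x⁻¹)⁻¹ *
              (x * (x * (a * u * a⁻¹ * u⁻¹) * x⁻¹) * x⁻¹ * u * (a * w1 * a⁻¹)) *
              (a * w1 * a⁻¹)⁻¹ := by group
          _ = (x * (x * (a * u * a⁻¹ * u⁻¹) * x⁻¹) * x⁻¹)⁻¹ * w1 * (a * w1 * a⁻¹)⁻¹ := by
              rw [h'']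
      rw [this]
      exact mul_mem (mul_mem (inv_mem hφφwaW) hw1W) (inv_mem hw1')
    have hN3 : (x * u * x⁻¹)⁻¹ * (x * u * x⁻¹ * w1) ∉ D := by
      rw [inv_mul_cancel_left]; exact hw1D
    have hinj := card_inj3 D E (x * u * x⁻¹) (x * u * x⁻¹ * w1) hDE hφuE
      (mul_mem hφuE hw1E) hN1 hN2 hN3
    omega
  · -- Case II
    push_neg at hcase
    obtain ⟨b1, hb1, hb1Q, hc1⟩ := hcase
    have hcW : b1 * u * b1⁻¹ * u⁻¹ ∈ W := hufix b1 hb1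
    have hcZ := hWZ _ hcW
    have hca := hM1 b1 hb1 hb1Q
    have hb1u : b1 * u * b1⁻¹ = (b1 * u * b1⁻¹ * u⁻¹) * u := by group
    have hcov : Nat.card ↥A ≤ 4 * Nat.card ↥D := by
      have hsub : ∀ b' ∈ A, b' * x * b'⁻¹ * x⁻¹ ∈ Q → b' ∈ D ∨ b1 * b' ∈ D := by
        intro b' hb' hb'Q
        have hwW : b' * u * b'⁻¹ * u⁻¹ ∈ W := hufix b' hb'
        rcases hH6 _ hcW _ hwW hca (hM1 b' hb' hb'Q) hc1 with h | h
        · left; exact hM2 b' hb' hb'Q h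
        · right
          refine hM2 (b1 * b') (mul_mem hb1 hb') ?_ ?_
          · have e : (b1 * b') * x * (b1 * b')⁻¹ * x⁻¹ =
                (b1 * (b' * x * b'⁻¹ * x⁻¹) * b1⁻¹) * (b1 * x * b1⁻¹ * x⁻¹) := by group
            rw [e]
            exact mul_mem (hQn _ hb'Q b1) hb1Q
          · have e : (b1 * b') * u * (b1 * b')⁻¹ * u⁻¹ =
                (b1 * (b' * u * b'⁻¹ * u⁻¹) * b1⁻¹) * (b1 * u * b1⁻¹ * u⁻¹) := by group
            rw [e, hBW b1 hb1 hb1Q _ hwW, h]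
            exact hZ2 _ hcZ
      apply card_cov4 A D b1 a (a * b1)
      intro b hb
      rcases hBdich b hb with h | h
      · rcases hsub b hb h with h' | h'
        · left; exact h'
        · right; left
          refine ⟨b1 * b, h', ?_⟩
          rw [← mul_assoc, hA2 b1 hb1, one_mul]
      · rcases hsub (a * b) (mul_mem ha hb) h with h' | h'
        · right; right; left
          refine ⟨a * b, h', ?_⟩
          rw [← mul_assoc, hA2 a ha, one_mul]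
        · right; right; right
          refine ⟨b1 * (a * b), h', ?_⟩
          calc b = (a * a) * b := by rw [hA2 a ha, one_mul]
            _ = a * (b1 * b1) * (a * b) := by rw [hA2 b1 hb1]; group
            _ = a * b1 * (b1 * (a * b)) := by group
    -- stage A
    have hD1c : D ⊔ Subgroup.zpowers w1 ≤ Subgroup.centralizer ({b1} : Set X) := by
      apply sup_le
      · intro d hd
        rw [Subgroup.mem_centralizer_iff]
        intro g hg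
        rw [Set.mem_singleton_iff] at hg
        rw [hg]; exact hAc b1 hb1 d (hDA hd)
      · rw [Subgroup.zpowers_le, Subgroup.mem_centralizer_iff]
        intro g hg
        rw [Set.mem_singleton_iff] at hg
        rw [hg]
        have := hBW b1 hb1 hb1Q w1 hw1W
        calc b1 * w1 = (b1 * w1 * b1⁻¹) * b1 := by group
          _ = w1 * b1 := by rw [this]
    have hD1E : D ⊔ Subgroup.zpowers w1 ≤ E :=
      sup_le hDE (by rw [Subgroup.zpowers_le]; exact hw1E)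
    have hstA : 2 * Nat.card ↥D ≤ Nat.card ↥(D ⊔ Subgroup.zpowers w1) :=
      card_inj2 D _ w1 le_sup_left
        (le_sup_right (a := D) (Subgroup.mem_zpowers w1)) hw1D
    have hD1b : ∀ q ∈ D ⊔ Subgroup.zpowers w1, b1 * q * b1⁻¹ = q := by
      intro q hq
      have := Subgroup.mem_centralizer_iff.mp (hD1c hq) b1 rfl
      rw [this]; group
    -- b1 moves u, φu, u φu
    have hcφ : x * (b1 * u * b1⁻¹ * u⁻¹) * x⁻¹ ≠ 1 := fun h => hc1 (hconj1 x _ h)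
    have hb1φu : b1 * (x * u * x⁻¹) * b1⁻¹ =
        (x * (b1 * u * b1⁻¹ * u⁻¹) * x⁻¹) * (x * u * x⁻¹) := by
      rw [hBφ b1 hb1 hb1Q u huZ]; group
    have hS1 : u ∉ D ⊔ Subgroup.zpowers w1 := by
      intro hmem
      have h := hD1b u hmem
      apply hc1
      rw [h]; group
    have hS2 : x * u * x⁻¹ ∉ D ⊔ Subgroup.zpowers w1 := by
      intro hmem
      have h := hD1b _ hmem
      rw [hb1φu] at h
      apply hcφ
      have h' : (x * (b1 * u * b1⁻¹ * u⁻¹) * x⁻¹) * (x * u * x⁻¹) = 1 * (x * u * x⁻¹) := by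
        rw [one_mul]; exact h
      exact mul_right_cancel h'
    have hS3 : u * (x * u * x⁻¹) ∉ D ⊔ Subgroup.zpowers w1 := by
      intro hmem
      have h := hD1b _ hmem
      have e : b1 * (u * (x * u * x⁻¹)) * b1⁻¹ =
          (b1 * u * b1⁻¹) * (b1 * (x * u * x⁻¹) * b1⁻¹) := by group
      rw [e, hb1u, hb1φu] at h
      -- h : (c * u) * (φc * φu) = u * φu
      have hφcZ : x * (b1 * u * b1⁻¹ * u⁻¹) * x⁻¹ ∈ Z := hZK x hx _ hcZ
      have cu : u * (x * (b1 * u * b1⁻¹ * u⁻¹) * x⁻¹) =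
          (x * (b1 * u * b1⁻¹ * u⁻¹) * x⁻¹) * u := hZcomm _ huZ _ hφcZ
      have h' : ((b1 * u * b1⁻¹ * u⁻¹) * (x * (b1 * u * b1⁻¹ * u⁻¹) * x⁻¹)) *
          (u * (x * u * x⁻¹)) = 1 * (u * (x * u * x⁻¹)) := by
        rw [one_mul]
        calc ((b1 * u * b1⁻¹ * u⁻¹) * (x * (b1 * u * b1⁻¹ * u⁻¹) * x⁻¹)) * (u * (x * u * x⁻¹))
            = (b1 * u * b1⁻¹ * u⁻¹) * ((x * (b1 * u * b1⁻¹ * u⁻¹) * x⁻¹) * u) *
              (x * u * x⁻¹) := by simp only [mul_assoc]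
          _ = (b1 * u * b1⁻¹ * u⁻¹) * (u * (x * (b1 * u * b1⁻¹ * u⁻¹) * x⁻¹)) *
              (x * u * x⁻¹) := by rw [cu]
          _ = (b1 * u * b1⁻¹ * u⁻¹) * u * ((x * (b1 * u * b1⁻¹ * u⁻¹) * x⁻¹) *
              (x * u * x⁻¹)) := by simp only [mul_assoc]
          _ = u * (x * u * x⁻¹) := h
      have h'' := mul_right_cancel h'
      -- c * φc = 1 → φc = c⁻¹ = c → c = 1
      have h3 : x * (b1 * u * b1⁻¹ * u⁻¹) * x⁻¹ = (b1 * u * b1⁻¹ * u⁻¹)⁻¹ :=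
        eq_inv_of_mul_eq_one_right h''
      rw [hZinv _ hcZ] at h3
      exact hc1 (hF2 _ (hWU hcW) h3)
    have hS12 : u⁻¹ * (x * u * x⁻¹) ∉ D ⊔ Subgroup.zpowers w1 := by
      rw [hZinv u huZ]; exact hS3
    have hS13 : u⁻¹ * (u * (x * u * x⁻¹)) ∉ D ⊔ Subgroup.zpowers w1 := by
      rw [inv_mul_cancel_left]; exact hS2
    have hS23 : (x * u * x⁻¹)⁻¹ * (u * (x * u * x⁻¹)) ∉ D ⊔ Subgroup.zpowers w1 := by
      have e : (x * u * x⁻¹)⁻¹ * (u * (x * u * x⁻¹)) = u := by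
        rw [hZcomm u huZ _ hφuZ, inv_mul_cancel_left]
      rw [e]; exact hS1
    have hstB := card_inj4 (D ⊔ Subgroup.zpowers w1) E u (x * u * x⁻¹) (u * (x * u * x⁻¹))
      hD1E huE hφuE (mul_mem huE hφuE) hS1 hS2 hS3 hS12 hS13 hS23
    omega

universe v

example : Cfsg.Agent.H19.Sx.StW.{v} := w

end Cfsg.Agent.H97.Sx

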